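import Cfsg.Agent.SPOR.BF.E1
import Cfsg.Agent.SPOR.BE.Emb1

/-!
Charts of index at most two.
-/

set_option autoImplicit false

namespace CL.BF

open Cfsg CL.Leech CL.MT CL.MO CL.MU CL.LX CL.MSS CL.BE CL.BE.Th Spor Subgroup
open CL.MP (W0 cm1 ov mem_ov four_mem_cj)

variable {X G : Type*} [Group X] [Group G] {z : X} {Q : Subgroup X} {R : leechLattice → X → Prop}
  {A : Co0 → X → Prop} {D : Set X} {s τ : X} {v u : leechLattice} {t : G} {J : X → G → Prop}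

namespace Ch0

section

variable (j : Ch0 s τ t J)
include j

theorem ran {a x} (e : J a x) : Commute x t := j.comm e j.tt (mem_LL.1 (j.dom e)).2

theorem v4 {a x} (e : J a x) : V4 s τ a ↔ x = 1 ∨ x = t := by
  rw [V4, ← or_assoc, ← j.ker e]
  exact or_congr_right ⟨fun h => j.fw e (j.of_or j.tt h), fun h => j.bw j.tt (h ▸ e)⟩

/-- transport -/
theorem conj {m : X} (hm : Commute m s) (g : G) :
    Ch0 s (m⁻¹ * τ * m) (g⁻¹ * t * g) fun a x => J (m * a * m⁻¹) (g * x * g⁻¹) := by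
  have ms : m * s * m⁻¹ = s := mul_inv_eq_iff_eq_mul.2 hm.eq
  have mL : ∀ {a}, m * a * m⁻¹ ∈ LL s τ ↔ a ∈ LL s (m⁻¹ * τ * m) := fun {a} => by
    rw [mem_LL, mem_LL, ← conj_comm (g := m) (a := a), ← conj_comm (g := m) (a := a), ms]
    simp [mul_assoc]
  have mH : ∀ {a}, HH s τ (m * a * m⁻¹) ↔ HH s (m⁻¹ * τ * m) a := fun {a} => by
    rw [HH, HH, ← conj_comm (g := m) (a := a), ms]
    refine and_congr_right fun _ => or_congr ?_ ?_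
    · rw [← (MulAut.conj m⁻¹).injective.eq_iff]; simp [mul_assoc]
    · rw [← (MulAut.conj m⁻¹).injective.eq_iff]; simp [mul_assoc, hm.eq]
  have gc : ∀ {x}, Commute (g * x * g⁻¹) t ↔ Commute x (g⁻¹ * t * g) := fun {x} => by
    rw [← conj_comm (g := g) (a := x)]; simp [mul_assoc]
  refine ⟨j.twist hm g, fun e => mL.1 (j.dom e), fun a ha => ?_, by simpa [mul_assoc] using j.tt,
    fun x y hx hy => ?_, fun h hh => ?_, fun h hh e => ?_⟩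
  · obtain ⟨x, hx⟩ := j.ex _ (mL.2 ha)
    exact ⟨g⁻¹ * x * g, by simpa [mul_assoc] using hx⟩
  · have k : ∀ {x}, (∃ a, J a x) → ∃ a, J (m * a * m⁻¹) x := fun ⟨a, e⟩ =>
      ⟨m⁻¹ * a * m, by simpa [mul_assoc] using e⟩
    exact (j.idx _ _ (gc.2 hx) (gc.2 hy)).imp k (Or.imp k fun e => k (by rwa [conj_mul] at e))
  · obtain ⟨n, n1, n2⟩ := j.nrm _ (gc.2 hh)
    exact ⟨m⁻¹ * n * m, mH.1 (by simpa [mul_assoc] using n1), fun a x e => by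
      simpa [mul_assoc] using n2 _ _ e⟩
  · refine (j.out _ (gc.2 hh) fun a x f => ?_).imp conj_eq_one_iff.1 fun e => by rw [← e]; group
    simpa [mul_assoc] using conj_comm (g := g).2 (e (m⁻¹ * a * m) (g⁻¹ * x * g)
      (by simpa [mul_assoc] using f))

/-- the second generator matters modulo `s` only -/
theorem mul_s' : Ch0 s (τ * s) t J := by
  have mL : ∀ {a}, a ∈ LL s (τ * s) ↔ a ∈ LL s τ := mem_LL.trans (Iff.trans (and_congr_right fun a =>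
    ⟨fun b => by simpa using b.mul_right a.inv_right, fun b => b.mul_right a⟩) mem_LL.symm)
  have mH : ∀ {a}, HH s (τ * s) a ↔ HH s τ a := fun {a} => and_congr_right fun e => by
    rw [← conj_mul, mul_inv_eq_iff_eq_mul.2 e.eq, mul_left_inj, mul_left_inj]
  exact ⟨j.toPJ, fun e => mL.2 (j.dom e), fun a ha => j.ex a (mL.1 ha), j.mul_s j.tt, j.idx,
    fun h hh => (j.nrm h hh).imp fun _ e => ⟨mH.2 e.1, e.2⟩, j.out⟩

end

theorem cm_mem (j : Ch0 s τ t J) {x y : G} (hx : Commute x t) (hy : Commute y t) :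
    ∃ a, J a (x * y * x⁻¹ * y⁻¹) := by
  obtain ⟨n, -, hn⟩ := j.nrm y hy
  obtain ⟨m, -, hm⟩ := j.nrm x hx
  rcases j.idx x y hx hy with ⟨a, e⟩ | ⟨a, e⟩ | ⟨a, e⟩
  · exact ⟨_, by simpa only [mul_assoc] using j.mul e (hn _ _ (j.inv e))⟩
  · exact ⟨_, j.mul (hm _ _ e) (j.inv e)⟩
  · exact ⟨_, by simpa [mul_assoc] using j.mul e (j.inv (hn _ _ e))⟩

variable (h : Fm z Q R A D s τ v u) (c : Cl z D s τ) (j : Ch0 s τ t J)
include h j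

theorem fus_tt : t * t = 1 := (j.ker (j.mul j.tt j.tt)).2 (Or.inl h.tt)

theorem fus_ne : t ≠ 1 := fun e => ((j.ker j.tt).1 e).elim (h.ne_one h.tD) fun e =>
  h.ne_one h.tsD (by rw [e, h.ss])

include c

theorem not_sq {a x} (e : J a x) : x * x ≠ t := fun n =>
  j.fus_ne h (n ▸ (j.ker (j.mul e e)).2 (Or.inl (c.sq a (j.dom e) ((j.v4 (j.mul e e)).2 (Or.inr n)))))

theorem b1 {g a} (e : J a (g * t * g⁻¹)) (ne : g * t * g⁻¹ ≠ t) : XT D s τ a := by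
  have n : ¬ V4 s τ a := fun n => ((j.v4 e).1 n).elim (fun e => j.fus_ne h (conj_eq_one_iff.1 e)) ne
  have a2 := c.sq a (j.dom e) ((j.v4 (j.mul e e)).2 (Or.inl (by rw [conj_mul, j.fus_tt h]; simp)))
  rcases c.q8 a (j.dom e) a2 n with k | ⟨p, hp, q, hq, k1, k2, k3⟩
  · exact ⟨j.dom e, k.1, k.2, n⟩
  obtain ⟨x, hx⟩ := j.ex p hp
  obtain ⟨y, hy⟩ := j.ex q hq
  have k : ∀ {p' x}, J p' x → p' * p' = p * p → g⁻¹ * x * g * (g⁻¹ * x * g) = t := fun {p' x} f e' => by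
    have := j.fw (j.mul f f) (e' ▸ j.of_or e k1)
    calc _ = g⁻¹ * (x * x) * g := by group
      _ = t := by rw [this]; group
  have m : ∀ {x : G}, x * x = t → Commute x t := fun e => e ▸ (Commute.refl _).mul_right (.refl _)
  rcases j.idx _ _ (m (k hx rfl)) (m (k hy k2)) with ⟨_, f⟩ | ⟨_, f⟩ | ⟨_, f⟩
  exacts [absurd (k hx rfl) (j.not_sq h c f), absurd (k hy k2) (j.not_sq h c f),
    absurd (by simpa [mul_assoc] using k (j.mul hx hy) k3) (j.not_sq h c f)]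

theorem exists_swap [Finite X] {g : G} {b : X} (hb : J b (g * t * g⁻¹)) (ne : g * t * g⁻¹ ≠ t) {n ν}
    (hn : XT D s τ n) (e : J n ν) :
    ∃ w, w * t * w⁻¹ = ν ∧ w * ν * w⁻¹ = t := by
  have xb := j.b1 h c hb ne
  obtain ⟨bs, bt⟩ := mem_LL.1 xb.1
  obtain ⟨i, h1, h2, h3⟩ := c.xz b xb
  have e1 : τ * (b * τ) = b := by rw [bt.eq, ← mul_assoc, h.tt, one_mul]
  obtain ⟨Q', R', A', v', u', h'⟩ := h.exists_fm h2 h.sD h.tD h.tsD (j := i) (by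
      rcases h1 with rfl | rfl
      exacts [(bs.mul_left h.cts).eq ▸ h3, ((bs.mul_left h.cts).mul_left (.refl s)).eq ▸ h3]) (by
      rcases h1 with rfl | rfl
      exacts [e1.symm ▸ xb.2.1, by rw [← mul_assoc, e1]; exact xb.2.2.1])
  have cb : ∀ p ∈ PP i s τ, ∀ x, J p x → Commute (g⁻¹ * x * g) t := fun p hp x f => by
    obtain ⟨⟨p1, p2⟩, p3⟩ := mem_PP.1 hp
    have : Commute p b := by
      rcases h1 with rfl | rfl
      · simpa using p3.mul_right p2.inv_right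
      · simpa using (p3.mul_right p1.inv_right).mul_right p2.inv_right
    simpa [mul_assoc] using conj_comm (g := g⁻¹).2 (j.comm f hb this)
  obtain ⟨x, ⟨d, -, hd⟩, hx⟩ := h'.perf (F := j.pre ((j.im ⊤).comap (MulAut.conj g⁻¹).toMonoidHom))
    (fun p hp q hq => by
      obtain ⟨x, hx⟩ := j.ex p hp.1
      obtain ⟨y, hy⟩ := j.ex q hq.1
      obtain ⟨a, ha⟩ := j.cm_mem (cb p hp x hx) (cb q hq y hy)
      exact ⟨_, ⟨a, trivial, by simpa [mul_assoc] using ha⟩, j.mul (j.cj hx hy) (j.inv hy)⟩) h'.t_PP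
  obtain rfl := j.fw hx j.tt
  replace hd : J d (g⁻¹ * x * g⁻¹⁻¹) := hd
  obtain ⟨m, hm, e2⟩ := c.xu d b (j.b1 h c hd fun e => ne (by nth_rw 1 [← e]; group)) xb
  obtain ⟨μ, hμ⟩ := j.ex m hm
  have e3 := j.fw (j.cj hμ hd) (j.of_or hb e2)
  obtain ⟨m', hm', e4⟩ := c.xu b n xb hn
  obtain ⟨μ', hμ'⟩ := j.ex m' hm'
  have e5 := j.fw (j.cj hμ' hb) (j.of_or e e4)
  have c1 : μ⁻¹ * x * μ = x := by rw [mul_assoc, ← (j.ran hμ).eq, inv_mul_cancel_left]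
  have c2 : μ'⁻¹ * x * μ' = x := by rw [mul_assoc, ← (j.ran hμ').eq, inv_mul_cancel_left]
  refine ⟨μ' * g * μ⁻¹ * μ'⁻¹, ?_, ?_⟩
  · calc _ = μ' * (g * (μ⁻¹ * (μ'⁻¹ * x * μ') * μ) * g⁻¹) * μ'⁻¹ := by group
      _ = ν := by rw [c2, c1, e5]
  · calc _ = μ' * g * μ⁻¹ * (g * x * g⁻¹) * μ * g⁻¹ * μ'⁻¹ := by rw [← e5]; group
      _ = μ' * (μ'⁻¹ * x * μ') * μ'⁻¹ := by rw [← e3, c2]; group
      _ = x := by group

end Ch0

variable {n : X} {ν : G} {J' : X → G → Prop}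

theorem Ch0.twist (j : Ch0 s τ t J) {m : X} (hm : HH s τ m) :
    Ch0 s τ t fun a x => J (m * a * m⁻¹) x := by
  have := j.conj hm.1 1
  simp only [one_mul, inv_one, mul_one] at this
  rcases (hm.inv j.ss).2 with e | e <;> rw [inv_inv] at e <;> rw [e] at this
  exacts [this, by simpa only [mul_assoc τ, j.ss, mul_one] using this.mul_s']

theorem Ch0.comm_mem (j : Ch0 s τ t J) {x y : G} (hx : Commute x t) (hy : Commute y t) :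
    ∃ a, J a (x * y * x⁻¹ * y⁻¹) := by
  by_cases h1 : ∃ a, J a y
  · obtain ⟨a, e⟩ := h1
    obtain ⟨m, -, k⟩ := j.nrm x hx
    exact ⟨_, j.mul (k _ _ e) (j.inv e)⟩
  by_cases h2 : ∃ a, J a x
  · obtain ⟨a, e⟩ := h2
    obtain ⟨m, -, k⟩ := j.nrm y hy
    exact ⟨_, by simpa only [mul_assoc] using j.mul e (k _ _ (j.inv e))⟩
  obtain ⟨a, e⟩ := ((j.idx x y hx hy).resolve_left h2).resolve_left h1
  obtain ⟨b, f⟩ := ((j.idx _ _ hx.inv_left hy.inv_left).resolve_left fun ⟨_, e⟩ =>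
    h2 ⟨_, by simpa using j.inv e⟩).resolve_left fun ⟨_, e⟩ => h1 ⟨_, by simpa using j.inv e⟩
  exact ⟨_, by simpa only [mul_assoc] using j.mul e f⟩

theorem Ch0.agree [Finite X] (h : Fm (n * τ) Q R A D s n v u) (j : Ch0 s τ t J) (j' : Ch0 s n ν J')
    (e : J n ν) (e' : J' τ t) : ∃ g, Commute g (n * τ) ∧ HH s n g ∧
      ∀ a ∈ PP (n * τ) s n, ∀ x, J a x → J' (g * a * g⁻¹) x := by
  have m1 : ∀ {a}, a ∈ PP (n * τ) s n → a ∈ LL s τ := fun ha => mem_LL.2 ⟨(mem_PP.1 ha).1.1, by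
    simpa using (mem_PP.1 ha).1.2.inv_right.mul_right (mem_PP.1 ha).2⟩
  have dom : ∀ {a b x}, J a x → J' b x → a ∈ PP (n * τ) s n ∧ b ∈ PP (n * τ) s n := fun f f' => by
    have a1 := mem_LL.1 (j.dom f)
    have a2 := h.comm_of_HH ⟨a1.1, j.comm' f e (j'.ran f')⟩ (.of_LL (j.dom f))
    exact ⟨mem_PP.2 ⟨⟨a1.1, by simpa using a2.mul_right a1.2.inv_right⟩, a2⟩, j'.dom f', cm1.2
      (h.comm_of_HH (.of_LL (j'.dom f')) ⟨(mem_LL.1 (j'.dom f')).1, j'.comm' f' e' (j.ran f)⟩)⟩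
  have H : PA (n * τ) s n fun a b => ∃ x, J a x ∧ J' b x := by
    refine ⟨fun ⟨_, a, b⟩ => dom a b, fun a ha => ?_, fun a ha => ?_,
      fun ⟨_, a, b⟩ ⟨_, c, d⟩ => ⟨_, j.mul a c, j'.mul b d⟩, fun ⟨_, a, b⟩ => ⟨_, j.inv a, j'.inv b⟩,
      fun ⟨_, a, b⟩ => (j.ker a).symm.trans (j'.ker b), ⟨1, j.one, j'.one⟩, ⟨1, j.one, j'.os⟩,
      ⟨1, j.os, j'.one⟩, ⟨ν, e, j'.tt⟩, ⟨_, j.mul e j.tt, j'.mul j'.tt e'⟩⟩
    · obtain ⟨x, ⟨b, -, f⟩, f'⟩ := h.perf (F := j.pre (j'.im ⊤)) (fun p hp q hq => by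
        obtain ⟨x, hx⟩ := j.ex p (m1 hp)
        obtain ⟨y, hy⟩ := j.ex q (m1 hq)
        obtain ⟨b, hb⟩ := j'.comm_mem (j.comm hx e (mem_PP.1 hp).1.2) (j.comm hy e (mem_PP.1 hq).1.2)
        exact ⟨_, ⟨b, trivial, hb⟩, j.mul (j.cj hx hy) (j.inv hy)⟩) ha
      exact ⟨b, x, f', f⟩
    · obtain ⟨x, ⟨b, -, f⟩, f'⟩ := h.perf (F := j'.pre (j.im ⊤)) (fun p hp q hq => by
        obtain ⟨x, hx⟩ := j'.ex p hp.1
        obtain ⟨y, hy⟩ := j'.ex q hq.1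
        obtain ⟨b, hb⟩ := j.comm_mem (j'.comm hx e' (mem_LL.1 (m1 hp)).2)
          (j'.comm hy e' (mem_LL.1 (m1 hq)).2)
        exact ⟨_, ⟨b, trivial, hb⟩, j'.mul (j'.cj hx hy) (j'.inv hy)⟩) ha
      exact ⟨b, x, f, f'⟩
  obtain ⟨g, g1, g2, g3⟩ := H.e1' h
  refine ⟨g, g1, g2, fun a ha x f => ?_⟩
  obtain ⟨y, f1, f2⟩ := g3 a ha
  exact j.fw f1 f ▸ f2

theorem Ch0.second [Finite X] (h : Fm z Q R A D s τ v u) (c : Cl z D s τ) (j : Ch0 s τ t J)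
    {g₀ : G} {b₀ : X} (hb : J b₀ (g₀ * t * g₀⁻¹)) (ne : g₀ * t * g₀⁻¹ ≠ t) (hn : XT D s τ n) (e : J n ν) :
    ∃ J', Ch0 s n ν J' ∧ ∀ a ∈ LL s τ, Commute a n → ∀ x, J a x → J' a x := by
  obtain ⟨w, w1, w2⟩ := j.exists_swap h c hb ne hn e
  obtain ⟨g, g1, g2⟩ := h.adj_conj h.sD h.tD hn.2.1 h.tsD hn.2.2.1
  have gs : g⁻¹ * s * g⁻¹⁻¹ = s := mul_inv_eq_iff_eq_mul.2 (Commute.inv_left g1).eq
  have gn : g⁻¹ * n * g⁻¹⁻¹ = τ := by rw [← g2]; group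
  obtain ⟨m, m1, m2⟩ := c.xu (g⁻¹ * τ * g⁻¹⁻¹) n ⟨mem_LL.2 ⟨gs ▸ conj_comm.2 h.cts, by
    have := conj_comm (g := g⁻¹).2 (mem_LL.1 hn.1).2.symm
    rwa [gn] at this⟩, h.conj h.tD _, by rw [← gs, conj_mul]; exact h.conj h.tsD _, by
      have i := (MulAut.conj g⁻¹).injective
      rintro (f | f | f | f)
      · exact h.ne_one h.tD (conj_eq_one_iff.1 f)
      · exact h.ne_one h.tsD (by rw [i (f.trans gs.symm), h.ss])
      · exact hn.2.2.2 (.inr (.inr (.inl (i (f.trans gn.symm)).symm)))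
      · have : τ = n * s := i (f.trans (show _ = g⁻¹ * _ * g⁻¹⁻¹ by rw [← conj_mul, gn, gs]))
        exact hn.2.2.2 (.inr (.inr (.inr (by rw [this, mul_assoc, h.ss, mul_one]))))⟩ hn
  have j0 := j.conj ((mem_LL.1 m1).1.mul_left (Commute.inv_left g1)) w⁻¹
  rw [show (m * g⁻¹)⁻¹ * τ * (m * g⁻¹) = n by
    rw [← g2, mul_inv_rev, mul_assoc g⁻¹⁻¹, ← (mem_LL.1 m1).2.inv_left.eq.symm]; group,
    show w⁻¹⁻¹ * t * w⁻¹ = ν by rw [inv_inv, w1]] at j0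
  have e0 : J (m * g⁻¹ * τ * (m * g⁻¹)⁻¹) (w⁻¹ * t * w⁻¹⁻¹) := by
    rw [show w⁻¹ * t * w⁻¹⁻¹ = ν by rw [← w2]; group]
    exact j.of_or e (by simpa only [mul_inv_rev, mul_assoc] using m2)
  have key : ∀ τ', Ch0 s τ' t J → J (m * g⁻¹ * τ' * (m * g⁻¹)⁻¹) (w⁻¹ * t * w⁻¹⁻¹) → IsConj z (n * τ') →
      n * τ' * s ∈ D → τ' ∈ D → ∃ J', Ch0 s n ν J' ∧ ∀ a, Commute a n → ∀ x, J a x → J' a x :=
    fun τ' j1 e1 a b d => by
    obtain ⟨Q', R', A', v', u', h'⟩ := h.exists_fm a h.sD hn.2.1 hn.2.2.1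
      (((mem_LL.1 hn.1).1.mul_left (mem_LL.1 (j0.dom e1)).1).eq ▸ b)
      (by rwa [← mul_assoc, h.sq hn.2.1, one_mul])
    obtain ⟨k, -, k2, k3⟩ := agree h' j1 j0 e e1
    exact ⟨_, j0.twist k2, fun a ha x f => k3 a (mem_PP.2 ⟨⟨(mem_LL.1 (j.dom f)).1, ha⟩,
      ha.mul_right (mem_LL.1 (j1.dom f)).2⟩) x f⟩
  obtain ⟨_, rfl | rfl, a, b⟩ := c.xz n hn
  · exact (key τ j e0 a b h.tD).imp fun _ a => ⟨a.1, fun b _ => a.2 b⟩
  · rw [mul_assoc n] at a b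
    exact (key _ j.mul_s' (j0.mul_s e0) a b h.tsD).imp fun _ a => ⟨a.1, fun b _ => a.2 b⟩

theorem Ch0.exists_e [Finite X] (h : Fm z Q R A D s τ v u) (c : Cl z D s τ) (j : Ch0 s τ t J)
    {g : G} {b : X} (hb : J b (g * t * g⁻¹)) (ne : g * t * g⁻¹ ≠ t) {n n' e₀ : X}
    (hn : XT D s τ n) (hn' : XT D s τ n')
    (nn : n' * n ∈ D) (tn : τ * n ∈ D) (tn' : τ * n' ∈ D) (hz : IsConj z (n' * (n * s)))
    (e1 : Commute e₀ s) (e2 : Commute e₀ n) (e3 : Commute e₀ n') :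
    ∃ e J₁, PJ s J₁ ∧ J₁ e₀ e ∧ (∀ a, Commute a n → ∀ x, J a x → J₁ a x) ∧
      ∀ a, Commute a n' → Commute a e₀ → ∀ x, J a x → Commute x e := by
  obtain ⟨ν, f⟩ := j.ex n hn.1
  obtain ⟨ν', f'⟩ := j.ex n' hn'.1
  obtain ⟨J1, j1, k1⟩ := j.second h c hb ne hn f
  obtain ⟨J2, j2, k2⟩ := j.second h c hb ne hn' f'
  have c1 : Commute n' n := h.comm_of_mul (h.sq hn'.2.1) (h.sq hn.2.1) nn
  have c2 := (mem_LL.1 hn.1).1
  have c3 := (mem_LL.1 hn'.1).1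
  obtain ⟨Q', R', A', v', u', h'⟩ := h.exists_fm hz h.sD hn'.2.1 hn'.2.2.1 (by
    rwa [← (c3.mul_left (c2.mul_left (.refl s))).eq, mul_assoc, mul_assoc, h.ss, mul_one])
    (by rw [← mul_assoc, h.sq hn'.2.1, one_mul]; exact hn.2.2.1)
  have mP : ∀ {a}, a ∈ PP (n' * (n * s)) s n' ↔ Commute a s ∧ Commute a n' ∧ Commute a n :=
    mem_PP.trans ⟨fun a => ⟨a.1.1, a.1.2, by
      simpa using (a.1.2.inv_right.mul_right a.2).mul_right a.1.1.inv_right⟩,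
      fun a => ⟨⟨a.1, a.2.1⟩, a.2.1.mul_right (a.2.2.mul_right a.1)⟩⟩
  obtain ⟨g, g1, g2, g3⟩ := agree h' j1.mul_s' j2 (k1 _ hn'.1 c1 _ f') (j2.mul_s (k2 _ hn.1 c1.symm _ f))
  obtain ⟨e, he⟩ := j1.ex e₀ (mem_LL.2 ⟨e1, e2⟩)
  have m0 := mP.2 ⟨e1, e3, e2⟩
  have h2 := g3 _ m0 _ he
  obtain ⟨k, l1, l2⟩ := h'.e2 h.tD (mP.2 ⟨h.cts, (mem_LL.1 hn'.1).2.symm, (mem_LL.1 hn.1).2.symm⟩)
    (h'.not_mem_Q h.tD h.tsD tn' (by
      rwa [mul_assoc n', ← mul_assoc s, ← c3.eq, ← mul_assoc n', ← mul_assoc n', h.sq hn'.2.1, one_mul,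
        c2.eq, ← mul_assoc s, h.ss, one_mul])) h.tsD tn' g1 g2.1 fun p hp pt => by
    have m := mem_LL.2 ⟨(mP.1 hp).1, pt⟩
    obtain ⟨x, hx⟩ := j.ex p m
    exact j2.bw (k2 p m (mP.1 hp).2.1 x hx) (g3 p hp x (k1 p m (mP.1 hp).2.2 x hx))
  refine ⟨e, J1, j1.toPJ, he, fun a ha x f => k1 a (j.dom f) ha x f, fun a a1 a2 x f =>
    j2.comm (k2 a (j.dom f) a1 x f) h2 ?_⟩
  rcases l2 with rfl | rfl
  · rwa [← (Fm.comm_of_Z l1 m0).eq, mul_inv_cancel_right]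
  · have at' := (mem_LL.1 (j.dom f)).2
    have := Fm.comm_of_Z l1 (mul_mem (mul_mem (mP.2 ⟨h.cts, (mem_LL.1 hn'.1).2.symm,
      (mem_LL.1 hn.1).2.symm⟩) m0) (inv_mem (mP.2 ⟨h.cts, (mem_LL.1 hn'.1).2.symm,
      (mem_LL.1 hn.1).2.symm⟩)))
    rw [show k * τ * e₀ * (k * τ)⁻¹ = k * (τ * e₀ * τ⁻¹) * k⁻¹ by group, ← this.eq, mul_inv_cancel_right]
    exact (at'.mul_right a2).mul_right at'.inv_right

end CL.BF
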