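import Cfsg.Agent.SPOR.BF.Def
import Cfsg.Agent.SPOR.BE.Emb2

/-!
A chart of index at most two extends to the presented Baby Monster.
-/

set_option autoImplicit false
set_option maxRecDepth 100000

namespace CL.BF

open CL.CE CL.Y5 CL.BM CL.MP CL.BE Cfsg Cfsg.Spor Subgroup

variable {X G : Type*} [Group X] [Group G] {t : G} {J : X → G → Prop}

theorem exists_em0 {x : ℕ → X} (hx : Pres x id RY) (h15 : x 15 = 1)
    (hB : gen x wB = centralizer {x 10}) (hL : gen x LW = LL (x 10) (x 5)) (n0 : x 0 ≠ 1)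
    (n1 : x 0 ≠ x 10) (n10 : x 10 ≠ 1) (j : Ch0 (x 10) (x 5) t J) {κ : X} (k1 : Commute κ (x 10))
    (k2 : κ * x 5 * κ⁻¹ = x 5 * x 10) {e : G} {J₁ : X → G → Prop} (j1 : PJ (x 10) J₁)
    (h4 : J₁ (x 4) e) (h8 : ∀ a, Commute a (x 8) → ∀ y, J a y → J₁ a y)
    (h7 : ∀ y, J (x 7) y → Commute y e) : ∃ Ψ, Em (x 10) (x 5) t Ψ ∧ ∃ φ : BabyMonster →* G,
      Function.Injective φ ∧ ∀ y, y ∈ φ.range ↔ ∃ a, Ψ a y := by
  let N := (j.pre ⊥).subgroupOf (centralizer {x 10})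
  have mN : ∀ c, c ∈ N ↔ c.1 = 1 ∨ c.1 = x 10 := fun c =>
    ⟨fun ⟨_, a, b⟩ => (j.ker b).1 a, fun a => ⟨1, rfl, j.of_or j.one (by rwa [one_mul])⟩⟩
  have : N.Normal := ⟨fun c hc g => (mN _).2 (((mN _).1 hc).imp (fun e => by simp [e]) fun e => by
    simp [e, (cm1.1 g.2).eq])⟩
  have kN : ∀ c, QuotientGroup.mk' N c = 1 ↔ c.1 = 1 ∨ c.1 = x 10 := fun c =>
    (QuotientGroup.eq_one_iff c).trans (mN c)
  obtain ⟨φ₀, h0⟩ := exists_homB hx hB.le (QuotientGroup.mk' N) fun c hc =>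
    (kN c).2 (hc.symm.imp_left (·.trans h15))
  have y3 : subst x wB 3 = x 0 := ev_singleton x 0
  have i0 := injB (φ := φ₀) (by rw [h0 3 (by norm_num), Ne, kN]; simp [y3, n0, n1])
  have j0 : PJ (x 10) fun a b => ∃ m, φ₀ b = QuotientGroup.mk' N ⟨a, m⟩ :=
    ⟨fun ⟨m, a⟩ ⟨m', b⟩ => ⟨mul_mem m m', by rw [map_mul, a, b, ← map_mul]; rfl⟩,
      fun ⟨m, a⟩ => ⟨inv_mem m, by rw [map_inv, a, ← map_inv]; rfl⟩,
      fun ⟨m, a⟩ => by rw [← map_eq_one_iff φ₀ i0, a, kN],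
      ⟨cm1.2 (.refl _), by rw [map_one, (kN _).2 (.inr rfl)]⟩⟩
  have hy : ∀ a, ∃ g, a ≠ 9 → J (subst x wB a) g := fun a => by
    by_cases h : a = 9
    · exact ⟨1, (absurd h ·)⟩
    refine (j.ex _ (hL.le ?_)).imp fun _ e _ => e
    by_cases e : a < 11
    · exact ev_mem_gen ((by decide : ∀ a < 11, a ≠ 9 → wB.getD a [] ∈ LW) a e h)
    · rw [subst, List.getD_eq_default _ _ (not_lt.1 e)]
      exact one_mem _
  choose δ₀ hδ using hy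
  let δ : ℕ → G := fun a => if a = 9 then e else δ₀ a
  have d0 : ∀ a, a ≠ 9 → J (subst x wB a) (δ a) := fun a h => by
    simpa only [δ, if_neg h] using hδ a h
  have d1 : ∀ a, a ≠ 1 → J₁ (subst x wB a) (δ a) := fun a h => by
    by_cases h9 : a = 9
    · subst h9
      rwa [show subst x wB 9 = x 4 from ev_singleton x 4]
    refine h8 _ ?_ _ (d0 a h9)
    by_cases e : a < 11
    · obtain ⟨b, -, e, c⟩ := (by decide +kernel : ∀ a < 11, a ≠ 1 → ∃ b < 14, wB.getD a [] = [b] ∧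
        (b = 8 ∨ amongRel id RY [b, 8, b, 8] = true)) a e h
      rw [subst, e, ev_singleton]
      exact c.elim (· ▸ .refl _) (commute_of hx)
    · rw [subst, List.getD_eq_default _ _ (not_lt.1 e)]
      exact Commute.one_left _
  have sq : ∀ a, δ a * δ a = 1 := fun a => by
    by_cases h : a = 9
    · exact (j1.ker (j1.mul (d1 a (by omega)) (d1 a (by omega)))).2 (.inl (sq_of (pres_wB hx) a))
    · exact (j.ker (j.mul (d0 a h) (d0 a h))).2 (.inl (sq_of (pres_wB hx) a))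
  obtain ⟨φ, hφ⟩ := BM.exists_hom (x := δ) ⟨fun a => eq_inv_of_mul_eq_one_right (sq a), fun r hr => by
    obtain ⟨a, b⟩ := (by decide +kernel : ∀ r ∈ RB0, (∀ a ∈ r, a < 11) ∧
      ((∀ a ∈ r, a ≠ 9) ∨ (∀ a ∈ r, a ≠ 1) ∨ r = [1, 9, 1, 9])) r hr
    have k := (j0.ker (j0.ev (y := subst x wB) (δ := p) fun c hc => ⟨_, h0 c (a c hc)⟩)).1
      (presP.rel r hr)
    rcases b with b | b | rfl
    · exact (j.ker (j.ev fun c hc => d0 c (b c hc))).2 k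
    · exact (j1.ker (j1.ev fun c hc => d1 c (b c hc))).2 k
    · have c : Commute (δ 1) (δ 9) := h7 _ ((ev_singleton x 7 : subst x wB 1 = _) ▸ d0 1 (by norm_num))
      simp only [ev_cons, ev_nil, mul_one]
      rw [c.eq, ← mul_assoc (δ 9), sq, one_mul, sq]⟩
  have i1 := injB (φ := φ) (by
    rw [hφ 3 (by norm_num), Ne, j.ker (d0 3 (by norm_num))]; simp [y3, n0, n1])
  have j2 : PJ (x 10) fun a g => ∃ b, (∃ m, φ₀ b = QuotientGroup.mk' N ⟨a, m⟩) ∧ φ b = g :=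
    ⟨fun ⟨_, a, b⟩ ⟨_, c, d⟩ => ⟨_, j0.mul a c, by rw [map_mul, b, d]⟩,
      fun ⟨_, a, b⟩ => ⟨_, j0.inv a, by rw [map_inv, b]⟩,
      fun ⟨_, a, b⟩ => by rw [← b, map_eq_one_iff φ i1, j0.ker a], ⟨1, j0.os, map_one φ⟩⟩
  have ex : centralizer {x 10} ≤ j0.pre ⊤ := hB.ge.trans (gen_le_iff.2 fun w hw => by
    obtain ⟨a, ha, rfl⟩ := (by decide : ∀ w ∈ wB, ∃ a < 11, w = wB.getD a []) w hw
    exact ⟨p a, trivial, _, h0 a ha⟩)
  have ag : ∀ {a g}, J a g → ∃ b, (∃ m, φ₀ b = QuotientGroup.mk' N ⟨a, m⟩) ∧ φ b = g := fun f => by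
    obtain ⟨g, f1, f2⟩ := hL.ge.trans (gen_le_iff (K :=
      { carrier := {a | ∃ g, J a g ∧ ∃ b, (∃ m, φ₀ b = QuotientGroup.mk' N ⟨a, m⟩) ∧ φ b = g}
        one_mem' := ⟨1, j.one, j2.one⟩
        mul_mem' := fun ⟨_, a, b⟩ ⟨_, c, d⟩ => ⟨_, j.mul a c, j2.mul b d⟩
        inv_mem' := fun ⟨_, a, b⟩ => ⟨_, j.inv a, j2.inv b⟩ }).2 fun w hw => by
      obtain ⟨a, ha, h9, rfl⟩ := (by decide : ∀ w ∈ LW, ∃ a < 11, a ≠ 9 ∧ w = wB.getD a []) w hw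
      exact ⟨_, d0 a h9, p a, ⟨_, h0 a ha⟩, hφ a ha⟩) (j.dom f)
    exact j.fw f1 f ▸ f2
  refine ⟨_, ⟨j2, fun ⟨_, ⟨m, _⟩, _⟩ => cm1.1 m, fun a ha => ?_, ag j.tt, fun g hg => ?_⟩, φ, i1,
    fun g => ⟨?_, fun ⟨_, b, _, e⟩ => ⟨b, e⟩⟩⟩
  · obtain ⟨b, -, f⟩ := ex (cm1.2 ha)
    exact ⟨_, b, f, rfl⟩
  · obtain ⟨b, -, f⟩ := ex (cm1.2 k1)
    have f' : ∃ c, (∃ m, φ₀ c = QuotientGroup.mk' N ⟨κ, m⟩) ∧ φ c = φ b := ⟨b, f, rfl⟩
    rcases j.idx g (φ b) hg (mul_inv_eq_iff_eq_mul.1 (j2.fw (j2.cj f' (ag j.tt))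
      (k2 ▸ j2.mul_s (ag j.tt)))) with ⟨a, e⟩ | ⟨a, e⟩ | ⟨a, e⟩
    · exact ⟨a, ag e⟩
    · have m : κ ∈ LL (x 10) (x 5) := by
        rcases j2.bw (ag e) f' with rfl | rfl
        exacts [j.dom e, j.dom (j.mul_s e)]
      rw [(mem_LL.1 m).2.eq, mul_inv_cancel_right] at k2
      exact absurd (left_eq_mul.1 k2) n10
    · exact ⟨_, by simpa only [mul_inv_cancel_right] using j2.mul (ag e) (j2.inv f')⟩
  · rintro ⟨b, rfl⟩
    obtain ⟨c, e⟩ := QuotientGroup.mk'_surjective N (φ₀ b)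
    exact ⟨c, b, ⟨c.2, e.symm⟩, rfl⟩

end CL.BF
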