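import Cfsg.Agent.SPOR.BF.Def
import Cfsg.Agent.SPOR.BE.Cls
import Cfsg.Agent.SPOR.BE.Fus

/-!
The action of `N(V)` on `V`; outer involutions.
-/

set_option autoImplicit false

namespace CL.BF

open Cfsg CL.Leech CL.MT CL.MO CL.MU CL.LX CL.MSS CL.BE CL.BE.Th Spor Subgroup
open CL.MP (W0 cm1 ov mem_ov four_mem_cj)

variable {X G : Type*} [Group X] [Group G] {z : X} {Q : Subgroup X} {R : leechLattice → X → Prop}
  {A : Co0 → X → Prop} {D : Set X} {s τ : X} {v u : leechLattice} {t : G} {J : X → G → Prop}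

/-- relabelling -/
theorem _root_.CL.BE.Fm.rot (h : Fm z Q R A D s τ v u) : Fm z Q R A D (τ * s) s (v - u) v :=
  ⟨h.toMw, h.rts, h.rs, sht_sub h.hu h.hv h.huv, h.hv, by
    rw [dt_sub, dt_self h.hv, dt_comm, h.huv]; rfl⟩

theorem v3 (h : Fm z Q R A D s τ v u) {n x : X} (hn : n ∈ NV s τ) (hx : x = s ∨ x = τ ∨ x = τ * s) :
    n * x * n⁻¹ = s ∨ n * x * n⁻¹ = τ ∨ n * x * n⁻¹ = τ * s :=
  ((mem_NV hn).2 (.inr hx)).resolve_left fun e => by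
    rcases hx with a | a | a <;> rw [conj_eq_one_iff.1 e] at a
    exacts [h.s_ne a.symm, h.swap.s_ne a.symm, h.ne_one h.tsD a.symm]

/-- the action on `{s, τ, τ s}` -/
theorem rho (h : Fm z Q R A D s τ v u) :
    ∃ ρ : NV s τ →* Equiv.Perm (Fin 3), ∀ n, ρ n = 1 ↔ n.1 ∈ LL s τ := by
  let T := {x | x = s ∨ x = τ ∨ x = τ * s}
  let a : MulAction (NV s τ) T :=
    { smul n x := ⟨_, v3 h n.2 x.2⟩
      one_smul x := Subtype.ext (show (1 : X) * x * 1⁻¹ = x by simp)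
      mul_smul a b x := Subtype.ext (show (a : X) * b * x * ((a : X) * b)⁻¹ = a * (b * x * (b : X)⁻¹) * (a : X)⁻¹ by
        group) }
  have c : Nat.card T = 3 := Set.ncard_eq_three.2 ⟨s, τ, τ * s, fun e => h.ne_one h.tsD (by rw [← e, h.ss]),
    fun e => h.swap.s_ne (by simpa using e), fun e => h.s_ne (by simpa using e), rfl⟩
  have : Finite T := Nat.finite_of_card_ne_zero (by omega)
  let e := Finite.equivFinOfCardEq c
  refine ⟨(e.permCongrHom : _ →* _).comp (MulAction.toPermHom (NV s τ) T), fun n => ?_⟩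
  rw [MonoidHom.comp_apply, MonoidHom.coe_coe, map_eq_one_iff _ e.permCongrHom.injective]
  refine ⟨fun k => mem_LL.2 ⟨?_, ?_⟩, fun k => Equiv.ext fun x => Subtype.ext
    (mul_inv_eq_iff_eq_mul.2 (comm_V4 k (.inr x.2)).eq)⟩
  exacts [mul_inv_eq_iff_eq_mul.1 (congrArg Subtype.val (Equiv.congr_fun k ⟨s, .inl rfl⟩)),
    mul_inv_eq_iff_eq_mul.1 (congrArg Subtype.val (Equiv.congr_fun k ⟨τ, .inr (.inl rfl)⟩))]

theorem out2_aux [Finite X] (h : Fm z Q R A D s τ v u)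
    (hc : Nat.card (LL s τ) = 306129918735099415756800) {n : X} (h1 : Commute n s)
    (h2 : n * τ * n⁻¹ = τ * s) (v4 : V4 s τ (n * n)) : ∃ S ≤ LL s τ, IsPGroup 2 S ∧
    (∀ r ∈ S, n * r * n⁻¹ ∈ S) ∧ ∃ p ∈ S, ∃ q ∈ S, Commute p (n * q * n⁻¹ * q⁻¹) ∧
      ∀ r ∈ [p, q, p * q], ∀ w, w = n * r * n⁻¹ * r⁻¹ → w * w = 1 ∧ w ≠ 1 ∧ w ≠ s := by
  have nH : HH s τ n := ⟨h1, .inr h2⟩
  have n4 : n ^ 2 ^ 2 = 1 := by
    rw [show n ^ 2 ^ 2 = n * n * (n * n) by simp only [← pow_two, ← pow_mul]]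
    rcases v4 with e | e | e | e <;> rw [e]
    exacts [mul_one 1, h.ss, h.tt, h.sq h.tsD]
  let S : Subgroup X :=
    { carrier := {y | HH s τ y}
      one_mem' := HH.of_LL (one_mem _)
      mul_mem' := HH.mul h.ss
      inv_mem' := HH.inv h.ss }
  obtain ⟨m, hm, hz⟩ := h.fix2 hc (H := zpowers n) (fun ⟨_, i, rfl⟩ => ⟨2, Subtype.ext (by
    show (n ^ i) ^ 2 ^ 2 = 1
    rw [← zpow_natCast, ← zpow_mul, mul_comm, zpow_mul, zpow_natCast, n4, one_zpow])⟩)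
    (zpowers_le.2 (show n ∈ S from nH))
  have mi : ∀ {y}, Commute m y → m⁻¹⁻¹ * y * m⁻¹ = y := fun e => by
    rw [inv_inv, e.eq, mul_inv_cancel_right]
  obtain ⟨z, Q, R, A, h, h4⟩ : ∃ z Q R A, Fm z Q R A D s τ v u ∧ Commute n z :=
    ⟨_, _, _, _, ⟨h.conj' m⁻¹, (mi (mem_LL.1 hm).1).symm ▸ h.rs, (mi (mem_LL.1 hm).2).symm ▸ h.rt, h.hv,
      h.hu, h.huv⟩, by simpa [mul_assoc] using conj_comm (g := m⁻¹).2 (hz n (mem_zpowers n))⟩
  obtain ⟨k, hk, kv⟩ := h.exists_k h.rs h.hv h4 h1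
  obtain ⟨a, b, o, e⟩ := exists_two (h.sq_k hk (by
    rcases v4 with e | e | e | e <;> rw [e]
    exacts [one_mem _, h.R_mem h.rs, h.R_mem h.rt, h.R_mem h.rts]) h.hv kv) h.hu h.hv h.huv kv
    (h.ku_of' hk kv h2)
  obtain ⟨p, hp⟩ := h.ex_x a
  obtain ⟨q, hq⟩ := h.ex_x b
  have key : ∀ x ∈ [a, b, a + b], ∀ r, R x r → ∀ w, w = n * r * n⁻¹ * r⁻¹ → w * w = 1 ∧ w ≠ 1 ∧ w ≠ s := by
    rintro x hx r hr _ rfl
    obtain ⟨-, e1, e2, e3⟩ := e x hx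
    have r := h.R_cm hk hr
    exact ⟨(h.sq_iff r).2 e1, fun e => e2 (h.cong_of r (e ▸ h.R_zero)), fun e => e3 (h.cong_of r (e ▸ h.rs))⟩
  refine ⟨Q ⊓ LL s τ, inf_le_right, h.lx.isPGroup.to_inf_left, fun r m => ⟨h.lx.norm n h4 r m.1, nH.cj.2 m.2⟩,
    p, ⟨h.R_mem hp, ((h.R_PP hp).2 (e a (by simp)).1).1⟩, q, ⟨h.R_mem hq, ((h.R_PP hq).2 (e b (by simp)).1).1⟩,
    (h.comm_iff hp (h.R_cm hk hq)).2 o, ?_⟩
  simp only [List.mem_cons, List.not_mem_nil, or_false, forall_eq_or_imp]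
  exact ⟨key a (by simp) p hp, key b (by simp) q hq, fun _ e => e ▸ key (a + b) (by simp) _ (h.R_mul hp hq)⟩

/-- `n` fixes exactly one element `s'` of `{s, τ, τ s}`; in the frame `h`, `h.swap` or `h.rot` with first
element `s'` we have `HH s' τ' n`, `n τ' n⁻¹ = τ' s'` (`LL`, `V4` do not change). As in `Ch.b2`:
`Fm.fix2` for `zpowers n` gives `m ∈ LL` with `m n m⁻¹ ∈ C(z)`; as in `Ch.b2_key`: `exists_two`,
`p, q` over `a, b`, `S = Q ⊓ LL` (conjugated back by `m`; or change the frame by `Mw.conj'`).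
`w ≠ 1, s'`; if `n` commutes with `s` then `s = s'`. -/
theorem out2 [Finite X] (h : Fm z Q R A D s τ v u)
    (hc : Nat.card (LL s τ) = 306129918735099415756800) :
    ∀ n ∈ NV s τ, n ∉ LL s τ → V4 s τ (n * n) → ∃ S ≤ LL s τ, IsPGroup 2 S ∧
    (∀ r ∈ S, n * r * n⁻¹ ∈ S) ∧ ∃ p ∈ S, ∃ q ∈ S, Commute p (n * q * n⁻¹ * q⁻¹) ∧
      ∀ r ∈ [p, q, p * q], ∀ w, w = n * r * n⁻¹ * r⁻¹ → w * w = 1 ∧ w ≠ 1 ∧ (w = s → ¬ Commute n s) := by
  intro n hn nL v4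
  have cs : ∀ {x}, n * x * n⁻¹ = x → Commute n x := mul_inv_eq_iff_eq_mul.1
  have inj : ∀ {x y}, n * x * n⁻¹ = n * y * n⁻¹ → x = y := fun e => by simpa using e
  have ts : τ ≠ s := fun e => h.ne_one h.tsD (by rw [e, h.ss])
  by_cases c : Commute n s
  · obtain ⟨S, a, b, d, p, hp, q, hq, e, f⟩ := out2_aux h hc c (((v3 h hn (.inr (.inl rfl))).resolve_left
      fun e => ts (inj (e.trans (mul_inv_eq_iff_eq_mul.2 c.eq).symm))).resolve_left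
        fun e => nL (mem_LL.2 ⟨c, cs e⟩)) v4
    exact ⟨S, a, b, d, p, hp, q, hq, e, fun r m w k => ⟨(f r m w k).1, (f r m w k).2.1,
      fun e => absurd e (f r m w k).2.2⟩⟩
  suffices ∃ s' τ' v' u', Fm z Q R A D s' τ' v' u' ∧ LL s' τ' = LL s τ ∧ V4 s' τ' (n * n) ∧
      Commute n s' ∧ n * τ' * n⁻¹ = τ' * s' by
    obtain ⟨_, _, _, _, h', e, a, b, d⟩ := this
    obtain ⟨S, a, b, d, p, hp, q, hq, e', f⟩ := out2_aux h' (e ▸ hc) b d a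
    exact ⟨S, e ▸ a, b, d, p, hp, q, hq, e', fun r m w k => ⟨(f r m w k).1, (f r m w k).2.1, fun _ => c⟩⟩
  have n2 : n * (n * s * n⁻¹) * n⁻¹ = s := by
    rw [show n * (n * s * n⁻¹) * n⁻¹ = n * n * s * (n * n)⁻¹ by group, ← (comm_V4 h.s_PP.1 v4).eq,
      mul_inv_cancel_right]
  have st : s * (τ * s) = τ := by rw [h.cts.eq, ← mul_assoc, h.ss, one_mul]
  rcases (v3 h hn (.inl rfl)).resolve_left (mt cs c) with e | e <;> rw [e] at n2
  · refine ⟨_, _, _, _, h.rot, Subgroup.ext fun a => by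
      rw [mem_LL, mem_LL]
      exact ⟨fun b => ⟨b.2, st ▸ b.2.mul_right b.1⟩, fun b => ⟨b.2.mul_right b.1, b.1⟩⟩, ?_,
      cs (by rw [← conj_mul, e, n2, h.cts.eq]), by rw [e, st]⟩
    rw [V4, st]
    unfold V4 at v4
    tauto
  · refine ⟨_, _, _, _, h.swap, inf_comm _ _, ?_, cs ?_, by rw [e, h.cts.eq]⟩
    · rw [V4, ← h.cts.eq]
      unfold V4 at v4
      tauto
    · rw [← conj_mul, e] at n2
      rw [eq_mul_inv_of_mul_eq n2, inv_eq_of_mul_eq_one_right (h.sq h.tsD), st]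

end CL.BF
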