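import Cfsg.Agent.SPOR.BF.Def
import Cfsg.Agent.SPOR.BE.Cls

/-!
The centralizer `2^(3+20).U₆(2)` of `z, s, τ`: normal subgroups, Sylow subgroups.
-/

set_option autoImplicit false

namespace CL.BF

open Cfsg CL.Leech CL.MT CL.MO CL.MU CL.LX CL.MSS CL.BE CL.BE.Th Spor Subgroup
open CL.MP (W0 cm1 ov mem_ov four_mem_cj)

variable {X G : Type*} [Group X] [Group G] {z : X} {Q : Subgroup X} {R : leechLattice → X → Prop}
  {A : Co0 → X → Prop} {D : Set X} {s τ : X} {v u : leechLattice} {t : G} {J : X → G → Prop}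

namespace MC

theorem pp_add {x y : leechLattice} (a : Pp u v x) (b : Pp u v y) : Pp u v (x + y) :=
  ⟨ort_add.2 (iff_of_true a.1 b.1), ort_add.2 (iff_of_true a.2 b.2)⟩

theorem pp_smul {g : Co0} (g1 : g • v = v) (g2 : g • u = u) {x : leechLattice} (a : Pp u v x) :
    Pp u v (g • x) :=
  ⟨by rw [← g1, ort_smul]; exact a.1, by rw [← g2, ort_smul]; exact a.2⟩

theorem fix_of_W0 (hu : Sht u) (hv : Sht v) (huv : dt u v = 16) {g : Co0} (g1 : g • v = v)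
    (g2 : g • u = u) {w : leechLattice} (hw : w ∈ W0 u v) (sw : Sht w) : g • w = w := by
  rcases Lc.W0_cases hw with e | e | e | e
  · exact absurd e (Lc.not_cong0 sw)
  · rcases pm_of_cong sw hu e with rfl | rfl <;> simp [g2]
  · rcases pm_of_cong sw hv e with rfl | rfl <;> simp [g1]
  · rcases pm_of_cong sw (Lc.sht_sub hu hv huv) e with rfl | rfl <;> simp [smul_sub, g1, g2]

theorem eq_one (hu : Sht u) (hv : Sht v) (huv : dt u v = 16) {g : Co0} (g1 : g • v = v)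
    (g2 : g • u = u) (hg : ∀ x, Pp u v x → g • x - x ∈ W0 u v) : g = 1 := by
  let N : Subgroup Co0 :=
    { carrier := {g | g • v = v ∧ g • u = u ∧ ∀ x, Pp u v x → g • x - x ∈ W0 u v}
      one_mem' := ⟨one_smul _ _, one_smul _ _, fun x _ => by simp⟩
      mul_mem' := fun {a b} ⟨a1, a2, a3⟩ ⟨b1, b2, b3⟩ => ⟨by rw [mul_smul, b1, a1],
        by rw [mul_smul, b2, a2], fun x hx => by
          simpa [mul_smul] using add_mem (a3 _ (pp_smul b1 b2 hx)) (b3 x hx)⟩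
      inv_mem' := fun {a} ⟨a1, a2, a3⟩ => by
        have b1 := inv_smul_eq_iff.2 a1.symm
        have b2 := inv_smul_eq_iff.2 a2.symm
        exact ⟨b1, b2, fun x hx => by simpa using neg_mem (a3 _ (pp_smul b1 b2 hx))⟩ }
  refine (normal_U hu hv huv (N := N) fun a a1 a2 k m k1 k2 => ?_).elim
    (fun e => e g ⟨g1, g2, hg⟩ g1 g2) fun e => ?_
  · have b1 := inv_smul_eq_iff.2 a1.symm
    have b2 := inv_smul_eq_iff.2 a2.symm
    refine ⟨by rw [mul_smul, mul_smul, b1, k1, a1], by rw [mul_smul, mul_smul, b2, k2, a2],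
      fun x hx => ?_⟩
    have := MP.smul_mem_W0 a (m.2.2 _ (pp_smul b1 b2 hx))
    rwa [a1, a2, smul_sub, smul_inv_smul, smul_smul, smul_smul] at this
  · obtain ⟨-, -, f, f1, f2⟩ := exists_reps hu hv huv
    obtain ⟨w, w1, w2⟩ := f2 0 (by simp)
    rw [add_zero] at w2
    exact absurd (Lc.mem_of_cong w2.symm (perp_le_of_comm hu hv huv (MP.two_mem_W0 u v)
      (fun a a1 a2 => (e a a1 a2).2.2) f1)) (Lc.not_mem_W0 hu hv huv w1)

theorem center_of (hu : Sht u) (hv : Sht v) (huv : dt u v = 16) {k : Co0} (h1 : k • v ∈ W0 u v)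
    (h2 : k • u ∈ W0 u v) (hk : ∀ x, Pp u v x → k • x - x ∈ W0 u v) : k ∈ center Co0 := by
  refine center_of_comm hu hv huv h1 h2 fun g g1 g2 => ?_
  have b1 := inv_smul_eq_iff.2 g1.symm
  have b2 := inv_smul_eq_iff.2 g2.symm
  have f : ∀ w, w ∈ W0 u v → Sht w → g⁻¹ • w = w → (k * g * k⁻¹ * g⁻¹) • w = w := fun w a b c => by
    rw [mul_smul, mul_smul, mul_smul, c,
      fix_of_W0 hu hv huv g1 g2 (Lc.inv_smul_W0 h1 h2 a) (b.smul k⁻¹), smul_inv_smul]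
  have := eq_one hu hv huv (f v (Lc.right_mem u v) hv b1) (f u (Lc.left_mem u v) hu b2) fun x hx => by
    have y1 := pp_smul b1 b2 hx
    have y2 : k⁻¹ • g⁻¹ • x - g⁻¹ • x ∈ W0 u v := by
      simpa [smul_sub] using neg_mem (Lc.inv_smul_W0 h1 h2 (hk _ y1))
    have y3 : Pp u v (k⁻¹ • g⁻¹ • x) := by simpa using pp_add (Lc.pp_of_W0 huv y2) y1
    have y4 := MP.smul_mem_W0 g y2
    rw [g1, g2, smul_sub, smul_inv_smul] at y4
    simpa [mul_smul] using add_mem (hk _ (pp_smul g1 g2 y3)) y4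
  rwa [mul_inv_eq_one, mul_inv_eq_iff_eq_mul] at this

variable (h : Fm z Q R A D s τ v u)
include h

theorem v4_mul {a b : X} (ha : V4 s τ a) (hb : V4 s τ b) : V4 s τ (a * b) := by
  have e1 : s * τ = τ * s := h.cts.eq.symm
  have e2 : s * (τ * s) = τ := by rw [← mul_assoc, e1, mul_assoc, h.ss, mul_one]
  have e3 : τ * (τ * s) = s := by rw [← mul_assoc, h.tt, one_mul]
  have e4 : τ * (s * τ) = s := by rw [e1, e3]
  rcases ha with rfl | rfl | rfl | rfl <;> rcases hb with rfl | rfl | rfl | rfl <;>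
    simp [V4, mul_assoc, h.ss, h.tt, e1, e2, e3]

theorem v4_Z {a : X} (ha : V4 s τ a) : a ∈ closure {z, s, τ} := by
  have m1 : s ∈ closure {z, s, τ} := subset_closure (by simp)
  have m2 : τ ∈ closure {z, s, τ} := subset_closure (by simp)
  rcases ha with rfl | rfl | rfl | rfl
  exacts [one_mem _, m1, m2, mul_mem m2 m1]

theorem v4_sq {a : X} (ha : V4 s τ a) : a * a = 1 := by
  rcases ha with rfl | rfl | rfl | rfl
  exacts [mul_one 1, h.ss, h.tt, h.sq h.tsD]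

theorem v4_z {a : X} (ha : V4 s τ a) : Commute a z := (mem_PP.1 (h.Z_le (v4_Z h ha)).2).2

theorem v4_of_W0 {y a} (ha : R y a) (hy : y ∈ W0 u v) : V4 s τ a ∨ V4 s τ (a * z) := by
  have k : ∀ {w c}, R w c → V4 s τ c → Cong y w → V4 s τ a ∨ V4 s τ (a * z) := fun hc m e =>
    (h.cases_of hc (h.R_of_cong ha e)).imp (fun e => by rwa [e]) fun e => by
      rwa [e, mul_assoc, h.zz, mul_one]
  rcases Lc.W0_cases hy with e | e | e | e
  exacts [k h.R_zero (.inl rfl) e, k h.rt (.inr (.inr (.inl rfl))) e, k h.rs (.inr (.inl rfl)) e,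
    k h.rts (.inr (.inr (.inr rfl))) (e.trans (neg_sub v u ▸ cong_neg _))]

theorem v4_three {a b : X} (ha : V4 s τ a ∨ V4 s τ (a * z)) (hb : V4 s τ b ∨ V4 s τ (b * z)) :
    V4 s τ a ∨ V4 s τ b ∨ V4 s τ (a * b) := by
  refine ha.imp_right fun ha => hb.imp_right fun hb => ?_
  have := v4_mul h ha hb
  rwa [(v4_z h hb).eq.symm.trans (by rw [mul_assoc, h.zz, mul_one]) |> fun e : z * (b * z) = b =>
    (by rw [mul_assoc, e] : a * z * (b * z) = a * b)] at this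

omit h in
theorem card_le [Finite X] (hc : Nat.card (LL s τ) = 306129918735099415756800) {S : Subgroup X}
    (le : S ≤ LL s τ) (p : IsPGroup 2 S) : Nat.card S ≤ 2 ^ 38 := by
  obtain ⟨k, hk⟩ := p.exists_card_eq
  have := card_dvd_of_le le
  rw [hk, hc, show 306129918735099415756800 = 2 ^ 38 * 1113694156575 by norm_num] at this
  rw [hk]
  exact Nat.le_of_dvd (by norm_num) (Nat.Coprime.dvd_of_dvd_mul_right
    (Nat.Coprime.pow_left k (by norm_num)) this)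

end MC

open CL.BF.MC

/-- `normal_U` for `lifts N`, `MP.irr2` for `ov N ⊔ W0`, `perp_le_of_comm`. -/
theorem normal_PP [Finite X] (h : Fm z Q R A D s τ v u) {N : Subgroup X} (le : N ≤ PP z s τ)
    (nrm : ∀ p ∈ PP z s τ, ∀ a ∈ N, p * a * p⁻¹ ∈ N) :
    N ≤ closure {z, s, τ} ∨ Q ⊓ PP z s τ ≤ N := by
  have h2 : ∀ y, 2 • y ∈ ov h.toMT N := fun y =>
    ⟨1, one_mem _, h.R_of_cong h.R_zero ⟨-y, by simp⟩⟩
  have cm : ∀ a ∈ N, ∀ p ∈ PP z s τ, a * p * a⁻¹ * p⁻¹ ∈ N := fun a ha p hp => by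
    simpa [mul_assoc] using mul_mem ha (nrm p hp _ (inv_mem ha))
  have key : (∀ g : Co0, g • v = v → g • u = u → ∀ x, Pp u v x → g • x - x ∈ ov h.toMT N) →
      Q ⊓ PP z s τ ≤ N := fun e => by
    have k : ∀ a ∈ Q ⊓ PP z s τ, a ∈ N ∨ a * z ∈ N := fun a ha => by
      obtain ⟨x, hx⟩ := h.ex_v a ha.1
      exact (mem_ov h.toMT hx).1 (perp_le_of_comm h.hu h.hv h.huv h2 e ((h.R_PP hx).1 ha.2))
    have hz : z ∈ N := by
      obtain ⟨x, hx, y, hy, e⟩ := MP.exists_not_comm_R2 h.toMT (h.R_mem h.rs) (h.R_mem h.rt)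
      have yP : y ∈ PP z s τ := ⟨⟨hy.1.2, hy.2⟩, h.le_cent hy.1.1⟩
      have e1 : x * y * x⁻¹ * y⁻¹ = z := by
        rw [(h.lx.conj_cases hy.1.1 hx.1.1).resolve_left fun a => e (mul_inv_eq_iff_eq_mul.1 a),
          h.lx.z_comm y hy.1.1, mul_inv_cancel_right]
      rcases k x ⟨hx.1.1, ⟨hx.1.2, hx.2⟩, h.le_cent hx.1.1⟩ with m | m
      · exact e1 ▸ cm x m y yP
      · have := cm _ m y yP
        rwa [mul_inv_rev, mul_assoc x, ← h.lx.z_comm y hy.1.1, ← mul_assoc, ← mul_assoc,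
          mul_inv_cancel_right, e1] at this
    exact fun a ha => (k a ha).elim id (mul_mem_cancel_right hz).1
  rcases normal_U h.hu h.hv h.huv (N := h.lifts N) (fun g g1 g2 k ⟨c, c1, c2⟩ _ _ => by
    obtain ⟨p, hp, hA⟩ := h.lift2 g1 g2
    exact ⟨_, nrm p hp c c1, h.A_mul (h.A_mul hA c2) (h.A_inv hA)⟩) with e | e
  · have NQ : N ≤ Q := fun a ha => by
      obtain ⟨k, k1, k2, k3⟩ := h.exists_k2 (le ha)
      exact (h.A_ker k1).2 (e k ⟨a, ha, k1⟩ k2 k3 ▸ one_mem _)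
    by_cases e1 : ov h.toMT N ≤ W0 u v
    · exact .inl fun a ha => let ⟨x, hx⟩ := h.ex_v a (NQ ha); h.exists_W0 (e1 ⟨a, ha, hx⟩) hx
    have inv : ∀ g : Co0, g • v = v → g • u = u → ∀ y ∈ ov h.toMT N, g • y ∈ ov h.toMT N :=
      fun g g1 g2 y ⟨a, ha, hy⟩ => by
        obtain ⟨p, hp, hA⟩ := h.lift2 g1 g2
        exact ⟨_, nrm p hp a ha, h.R_conj hA hy⟩
    refine .inr (key fun g g1 g2 x hx => ?_)
    obtain ⟨a, ha, w, hw, rfl⟩ := AddSubgroup.mem_sup.1 (MP.irr2 (W := ov h.toMT N ⊔ W0 u v) h.hu h.hv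
      h.huv le_sup_right (fun k k1 k2 y hy => by
        obtain ⟨a, ha, w, hw, rfl⟩ := AddSubgroup.mem_sup.1 hy
        have := MP.smul_mem_W0 k hw
        rw [k1, k2] at this
        rw [smul_add]
        exact AddSubgroup.add_mem_sup (inv k k2 k1 a ha) this)
      (fun e => e1 (le_sup_left.trans e)) hx.2 hx.1)
    obtain ⟨c, hc⟩ := Lc.cong_of_fix g1 g2 hw
    rw [smul_add, add_sub_add_comm, hc]
    exact add_mem (sub_mem (inv g g1 g2 a ha) ha) (h2 c)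
  · refine .inr (key fun g g1 g2 x hx => ?_)
    obtain ⟨p, hp, hA⟩ := e g g1 g2
    obtain ⟨b, hb⟩ := h.ex_x x
    exact ⟨_, cm p hp b ((h.R_PP hb).2 hx), h.R_of_cong (h.R_cm hA hb)
      (add_comm x _ ▸ (cong_sub _ _).symm)⟩

/-- `n` centralizes `z`, the element of `Co0` below `n` is central, `cases_of_perp`. -/
theorem cent_R [Finite X] (h : Fm z Q R A D s τ v u) {n : X} (hn : n ∈ NV s τ)
    (e : ∀ r ∈ Q ⊓ PP z s τ, V4 s τ (n * r * n⁻¹ * r⁻¹)) : V4 s τ n ∨ V4 s τ (n * z) := by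
  have nz : Commute n z := by
    have k : ∀ {w c}, R w c → Sht w → n * z * n⁻¹ * z⁻¹ ≠ c := fun hc hw e =>
      h.z_not ((h.conj_iff n).1 (mul_inv_eq_iff_eq_mul.1 e ▸ h.of_R (h.R_z hc) hw))
    rcases e z ⟨h.lx.z_mem, h.z_PP⟩ with e | e | e | e
    · exact mul_inv_eq_iff_eq_mul.1 (mul_inv_eq_one.1 e)
    exacts [absurd e (k h.rs h.hv), absurd e (k h.rt h.hu),
      absurd e (k h.rts (sht_sub h.hu h.hv h.huv))]
  obtain ⟨k, hk⟩ := h.ex_g n nz
  have nQ := (h.A_ker hk).2 (center_of h.hu h.hv h.huv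
    (h.W0_of_Z (v4_Z h ((mem_NV hn).2 (.inr (.inl rfl)))) (h.R_conj hk h.rs))
    (h.W0_of_Z (v4_Z h ((mem_NV hn).2 (.inr (.inr (.inl rfl))))) (h.R_conj hk h.rt)) fun x hx => by
      obtain ⟨b, hb⟩ := h.ex_x x
      exact Lc.mem_of_cong (add_comm x _ ▸ cong_sub _ _)
        (h.W0_of_Z (v4_Z h (e b ⟨h.R_mem hb, (h.R_PP hb).2 hx⟩)) (h.R_cm hk hb)))
  obtain ⟨y, hy⟩ := h.ex_v n nQ
  refine v4_of_W0 h hy ?_
  rcases cases_of_perp (a := v) (f := u) (y := y) (fun x a b => by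
    obtain ⟨r, hr⟩ := h.ex_x x
    by_contra c
    have := e r ⟨h.R_mem hr, (h.R_PP hr).2 ⟨a, b⟩⟩
    rw [h.conj_z hy hr c, (h.cz hr).eq, mul_inv_cancel_right] at this
    exact h.z_v4 this) with c | c | c | c
  exacts [Lc.mem_of_cong c (zero_mem _), Lc.mem_of_cong c (Lc.right_mem u v),
    Lc.mem_of_cong c (Lc.left_mem u v), Lc.mem_of_cong c (add_mem (Lc.right_mem u v) (Lc.left_mem u v))]

/-- the frame at a conjugate of `z` in `n V` -/
theorem cls1 [Finite X] (h : Fm z Q R A D s τ v u) (c : Cl z D s τ)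
    (hc : Nat.card (LL s τ) = 306129918735099415756800) :
    ∀ n, C1 D s τ n → n ∈ LL s τ ∧ ∃ P ≤ LL s τ, τ ∈ P ∧ (∀ p ∈ P, Commute p n) ∧
    (∀ F : Subgroup X, (∀ p ∈ P, ∀ q ∈ P, p * q * p⁻¹ * q⁻¹ ∈ F) → P ≤ F) ∧
    (∀ N ≤ P, (∀ p ∈ P, ∀ a ∈ N, p * a * p⁻¹ ∈ N) → τ ∈ N ∨
      ∀ a ∈ N, a * a = 1 ∧ ∀ b ∈ N, V4 s τ a ∨ V4 s τ b ∨ V4 s τ (a * b)) ∧
    ∃ T ≤ P, IsPGroup 2 T ∧ Nat.card T = 2 ^ 38 := by
  rintro n ⟨e, he, xb⟩
  obtain ⟨b, rfl⟩ : ∃ b, n = b * e⁻¹ := ⟨n * e, by simp⟩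
  rw [inv_mul_cancel_right] at xb
  obtain ⟨bs, bt⟩ := mem_LL.1 xb.1
  obtain ⟨i, h1, h2, h3⟩ := c.xz b xb
  have e1 : τ * (b * τ) = b := by rw [bt.eq, ← mul_assoc, h.tt, one_mul]
  obtain ⟨Q', R', A', v', u', h'⟩ := h.exists_fm h2 h.sD h.tD h.tsD (j := i) (by
      rcases h1 with rfl | rfl
      exacts [(bs.mul_left h.cts).eq ▸ h3, ((bs.mul_left h.cts).mul_left (.refl s)).eq ▸ h3]) (by
      rcases h1 with rfl | rfl
      exacts [e1.symm ▸ xb.2.1, by rw [← mul_assoc, e1]; exact xb.2.2.1])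
  refine ⟨mul_mem xb.1 (inv_mem (h.Z_le (v4_Z h he)).2.1), PP i s τ, inf_le_left, h'.t_PP,
    fun p hp => ?_, fun F => h'.perf, fun N le nrm => ?_, ?_⟩
  · obtain ⟨⟨p1, p2⟩, p3⟩ := mem_PP.1 hp
    refine Commute.mul_right ?_ (comm_V4 hp.1 he).inv_right
    rcases h1 with rfl | rfl
    · simpa using p3.mul_right p2.inv_right
    · simpa using (p3.mul_right p1.inv_right).mul_right p2.inv_right
  · refine (normal_PP h' le nrm).symm.imp (fun e => e ⟨h'.R_mem h'.rt, h'.t_PP⟩) fun e a ha => ?_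
    have k : ∀ a ∈ N, V4 s τ a ∨ V4 s τ (a * i) := fun a ha =>
      let ⟨_, hy⟩ := h'.ex_v a (h'.Z_le (e ha)).1
      v4_of_W0 h' hy (h'.W0_of_Z (e ha) hy)
    refine ⟨(k a ha).elim (v4_sq h) fun m => ?_, fun b hb => v4_three h' (k a ha) (k b hb)⟩
    have := v4_sq h m
    rwa [(mem_PP.1 (le ha)).2.symm.mul_mul_mul_comm, h'.zz, mul_one] at this
  · have : Fact (Nat.Prime 2) := ⟨Nat.prime_two⟩
    obtain ⟨K, hK⟩ := Sylow.exists_subgroup_card_pow_prime (G := LL s τ) 2 (n := 38)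
      (by rw [hc]; norm_num)
    have pK := (IsPGroup.of_card hK).map (LL s τ).subtype
    obtain ⟨m, hm, hm'⟩ := h'.fix2 hc pK fun y hy => HH.of_LL (map_subtype_le K hy)
    refine ⟨(K.map (LL s τ).subtype).map (MulAut.conj m).toMonoidHom, ?_, pK.map _, ?_⟩
    · rintro _ ⟨y, hy, rfl⟩
      exact mem_inf.2 ⟨mul_mem (mul_mem hm (map_subtype_le K hy)) (inv_mem hm), cm1.2 (hm' y hy)⟩
    · rw [card_map_of_injective (MulAut.conj m).injective, card_map_of_injective (subtype_injective _), hK]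

/-- a Sylow subgroup of `LL` contains a conjugate of `Q ⊓ PP` -/
theorem big [Finite X] (h : Fm z Q R A D s τ v u) (c : Cl z D s τ)
    (hc : Nat.card (LL s τ) = 306129918735099415756800) :
    ∀ S ≤ LL s τ, IsPGroup 2 S → Nat.card S ≤ 2 ^ 38 ∧ (Nat.card S = 2 ^ 38 →
    ∀ n ∈ NV s τ, ∀ m ∈ NV s τ, (∀ r ∈ S, V4 s τ (n * r * n⁻¹ * r⁻¹)) →
      (∀ r ∈ S, V4 s τ (m * r * m⁻¹ * r⁻¹)) → V4 s τ n ∨ V4 s τ m ∨ V4 s τ (n * m)) := by
  refine fun S le p => ⟨card_le hc le p, fun cS => ?_⟩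
  obtain ⟨l, hl, hl'⟩ := c.fix S p fun y hy => HH.of_LL (le hy)
  let S' := S.map (MulAut.conj l).toMonoidHom
  have l1 : S' ≤ PP z s τ := by
    rintro _ ⟨y, hy, rfl⟩
    exact mem_inf.2 ⟨mul_mem (mul_mem hl (le hy)) (inv_mem hl), cm1.2 (hl' y hy)⟩
  have l2 : S' = S' ⊔ Q ⊓ PP z s τ := eq_of_le_of_card_ge le_sup_left (by
    rw [card_map_of_injective (MulAut.conj l).injective, cS]
    refine card_le hc (sup_le (l1.trans inf_le_left) (inf_le_right.trans inf_le_left))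
      ((p.map _).to_sup_of_normal_right' h.lx.isPGroup.to_inf_left fun y hy => ?_)
    exact mem_normalizer_fintype fun a ha => mem_inf.2 ⟨h.lx.norm y (mem_PP.1 (l1 hy)).2 a ha.1,
      mul_mem (mul_mem (l1 hy) (mem_inf.1 ha).2) (inv_mem (l1 hy))⟩)
  have k : ∀ n ∈ NV s τ, (∀ r ∈ S, V4 s τ (n * r * n⁻¹ * r⁻¹)) →
      V4 s τ (l * n * l⁻¹) ∨ V4 s τ (l * n * l⁻¹ * z) := fun n hn e =>
    cent_R h (mul_mem (mul_mem (LL_le hl) hn) (inv_mem (LL_le hl))) fun r hr => by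
      obtain ⟨y, hy, rfl⟩ := l2.ge (mem_sup_right hr)
      simpa [mul_assoc] using (mem_NV (LL_le hl)).2 (e y hy)
  intro n hn m hm e1 e2
  simpa only [conj_mul, mem_NV (LL_le hl)] using v4_three h (k n hn e1) (k m hm e2)

end CL.BF
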