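import Cfsg.Agent.SPOR.BF.Def

/-!
Passing to `N(O) / O` and back.
-/

set_option autoImplicit false

namespace CL.BF

open Cfsg CL.BE CL.BE.Th Subgroup

variable {X G Y : Type*} [Group X] [Group G] [Group Y] {s τ : X} {C : X → Prop}
  {L K H O N : Subgroup G} {t g : G} {J : X → G → Prop}

namespace Quo

theorem St.fwK (j : St s τ L K H J) {a x y} (e : J a x) (f : J a y) : x⁻¹ * y ∈ K ∧ (x⁻¹ * y) ^ 3 = 1 := by
  have h : J 1 (x⁻¹ * y) := by simpa using j.mul (j.inv e) f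
  exact ⟨(j.ker h).2 (Or.inl rfl), j.k3 h⟩

theorem fw (j : So s τ L K H O t g J) {a x y} (e : J a x) (f : J a y) : x⁻¹ * y ∈ O :=
  let ⟨h1, h2⟩ := St.fwK j.toSt e f
  (j.mO _).2 ⟨h1, Odd.of_dvd_nat (by decide : Odd 3) (orderOf_dvd_of_pow_eq_one h2)⟩

theorem tK (j : So s τ L K H O t g J) : t ∈ K := (j.ker j.tt).2 (Or.inr (Or.inr (Or.inl rfl)))

theorem t1 (m : S1 s τ C) (j : So s τ L K H O t g J) : t ≠ 1 := fun e =>
  (j.k1 (e ▸ j.tt)).elim m.t1 m.ts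

theorem tO (m : S1 s τ C) (j : So s τ L K H O t g J) : t ∉ O := fun e =>
  t1 m j (pow_eq_of_odd j.odd e (k := 1) (by rw [pow_one, pow_two, j.t2]))

theorem OK (j : So s τ L K H O t g J) : O ≤ K := fun _ e => ((j.mO _).1 e).1

theorem HN (j : So s τ L K H O t g J) : H ≤ normalizer (O : Set G) := by
  have k : ∀ h ∈ H, ∀ o ∈ O, h * o * h⁻¹ ∈ O := fun h hh o ho => (j.mO _).2
    ⟨j.nK h hh o (OK j ho), by
      rw [show h * o * h⁻¹ = MulAut.conj h o from rfl, MulEquiv.orderOf_eq]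
      exact ((j.mO _).1 ho).2⟩
  exact fun h hh o => ⟨k h hh o, fun e => by simpa [mul_assoc] using k _ (inv_mem hh) _ e⟩

theorem hh (m : S1 s τ C) (j : So s τ L K H O t g J) {n h} (r : NR s τ H J n h) : HH s τ n := by
  have e : n * s * n⁻¹ = s :=
    (j.k1 (by simpa using (r.2.2 _ _).1 j.os)).resolve_left fun e => m.s1 (conj_eq_one_iff.1 e)
  refine ⟨mul_inv_eq_iff_eq_mul.1 e, ?_⟩
  rcases (mem_NV r.1).2 (Or.inr (Or.inr (Or.inl rfl)) : V4 s τ τ) with f | f | f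
  · exact (m.t1 (conj_eq_one_iff.1 f)).elim
  · exact (m.ts (conj_injective (f.trans e.symm))).elim
  · exact f

theorem nr_mul {n h n' h'} (r : NR s τ H J n h) (r' : NR s τ H J n' h') : NR s τ H J (n * n') (h * h') :=
  ⟨mul_mem r.1 r'.1, mul_mem r.2.1 r'.2.1, fun a x => by
    rw [r'.2.2, r.2.2]; simp only [mul_inv_rev, mul_assoc]⟩

theorem inner (j : St s τ L K H J) {n h l} (r : NR s τ H J n h) (e : J n l) : l⁻¹ * h ∈ K := by
  refine (j.nker (n := 1) ⟨one_mem _, mul_mem (inv_mem (j.LH ((j.ran _).2 ⟨_, e⟩))) r.2.1,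
    fun a x => ?_⟩).2 (Or.inl rfl)
  rw [r.2.2]
  exact ⟨fun f => by simpa [mul_assoc] using j.mul (j.mul (j.inv e) f) e,
    fun f => by simpa [mul_assoc] using j.mul (j.mul e f) (j.inv e)⟩

end Quo

open Quo

/-- `H ≤ N(O)` (`mO`, `nK`); `t` is the only involution of `K` (`dec`); `C(t) ≤ H` (`ti`).
`ker`: `J 1 x → x ∈ O` (`k3`), `t ∉ O`. If `π x` commutes with `π t` then `x t x⁻¹ ∈ t O ≤ K`, so `x ∈ H`;
its `n` (`nex`) fixes `s` (`os`, `k1`), so `HH s τ n`; `idx`: `HH.two`, and if `n ∈ LL`, `J n l`, then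
`l⁻¹ x ∈ K = O ∪ O t` (`nker`). `out`: `cen`. -/
theorem So.ch0 [Finite G] (m : S1 s τ C) (j : So s τ L K H O t g J) (hN : N = normalizer (O : Set G))
    (π : N →* Y) (su : Function.Surjective π) (ker : ∀ x, π x = 1 ↔ x.1 ∈ O) :
    H ≤ N ∧ ∃ (tN : t ∈ N) (gN : g ∈ N), Ch0 s τ (π ⟨t, tN⟩) (fun a y => ∃ x : N, J a x ∧ π x = y) ∧
      (∃ b, ∃ x : N, J b x ∧ π x = π ⟨g, gN⟩ * π ⟨t, tN⟩ * (π ⟨g, gN⟩)⁻¹) ∧
      π ⟨g, gN⟩ * π ⟨t, tN⟩ * (π ⟨g, gN⟩)⁻¹ ≠ π ⟨t, tN⟩ := by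
  have hHN : H ≤ N := hN ▸ HN j
  have tN : t ∈ N := hHN (j.KH (tK j))
  have gN : g ∈ N := hN ▸ j.gO
  have LN : ∀ {a x}, J a x → x ∈ N := fun e => hHN (j.LH ((j.ran _).2 ⟨_, e⟩))
  have cH : ∀ x : N, Commute (π x) (π ⟨t, tN⟩) → x.1 ∈ H := fun x c => by
    have h1 : (x * ⟨t, tN⟩ * x⁻¹ * (⟨t, tN⟩ : N)⁻¹).1 ∈ O := (ker _).1 (by simp [c.eq])
    exact j.ti x t j.t2 (t1 m j) (tK j) (by simpa using mul_mem (OK j h1) (tK j))
  have dec : ∀ x : N, x.1 ∈ K → π x = 1 ∨ π x = π ⟨t, tN⟩ := fun x hx =>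
    (j.dec x hx).imp (ker x).2 fun e => by
      have h1 : π (x * ⟨t, tN⟩) = 1 := (ker _).2 e
      have h2 : π (⟨t, tN⟩ * ⟨t, tN⟩) = 1 := by rw [show (⟨t, tN⟩ * ⟨t, tN⟩ : N) = 1 from Subtype.ext j.t2, map_one]
      rw [map_mul] at h1 h2
      exact mul_right_cancel (h1.trans h2.symm)
  have inn : ∀ (x : N) n, NR s τ H J n x → n ∈ LL s τ → ∃ a, ∃ y : N, J a y ∧ π y = π x := fun x n r hn => by
    obtain ⟨l, e⟩ := j.ex n hn
    rcases dec ((⟨l, LN e⟩ : N)⁻¹ * x) (inner j.toSt r e) with f | f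
    · exact ⟨n, ⟨l, LN e⟩, e, by rwa [map_mul, map_inv, inv_mul_eq_one] at f⟩
    · exact ⟨_, ⟨l, LN e⟩ * ⟨t, tN⟩, j.mul e j.tt, by rw [map_mul, ← f, map_mul, map_inv, mul_inv_cancel_left]⟩
  refine ⟨hHN, tN, gN, ⟨⟨?_, ?_, ?_, ⟨1, j.os, map_one π⟩⟩, fun ⟨_, e, _⟩ => j.dom e, fun a ha => ?_,
    ⟨⟨t, tN⟩, j.tt, rfl⟩, fun x y hx hy => ?_, fun x hx => ?_, fun x hx c => ?_⟩, ?_, fun e => ?_⟩
  · rintro a b _ _ ⟨x, e, rfl⟩ ⟨y, f, rfl⟩
    exact ⟨x * y, j.mul e f, map_mul π x y⟩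
  · rintro a _ ⟨x, e, rfl⟩
    exact ⟨x⁻¹, j.inv e, map_inv π x⟩
  · rintro a _ ⟨x, e, rfl⟩
    rw [ker]
    refine ⟨fun hx => ?_, ?_⟩
    · rcases (j.ker e).1 (OK j hx) with f | f | f | f
      · exact Or.inl f
      · exact Or.inr f
      · have := mul_mem hx (fw j (f ▸ e) j.tt)
        rw [mul_inv_cancel_left] at this
        exact (tO m j this).elim
      · have := mul_mem hx (fw j (f ▸ e) (j.mul j.tt j.os))
        rw [mul_inv_cancel_left, mul_one] at this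
        exact (tO m j this).elim
    · rintro (rfl | rfl)
      · have := fw j (show J 1 1 by simpa using j.mul j.os (j.inv j.os)) e
        rwa [inv_one, one_mul] at this
      · have := fw j j.os e
        rwa [inv_one, one_mul] at this
  · obtain ⟨x, e⟩ := j.ex a ha
    exact ⟨_, ⟨x, LN e⟩, e, rfl⟩
  · obtain ⟨x, rfl⟩ := su x
    obtain ⟨y, rfl⟩ := su y
    obtain ⟨n, r⟩ := j.nex _ (cH x hx)
    obtain ⟨n', r'⟩ := j.nex _ (cH y hy)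
    refine (HH.two m.ss (hh m j r) (hh m j r')).imp (inn x n r) (Or.imp (inn y n' r') fun e => ?_)
    rw [← map_mul]
    exact inn (x * y) _ (nr_mul r r') e
  · obtain ⟨x, rfl⟩ := su x
    obtain ⟨n, r⟩ := j.nex _ (cH x hx)
    refine ⟨n, hh m j r, ?_⟩
    rintro a _ ⟨y, e, rfl⟩
    exact ⟨x * y * x⁻¹, (r.2.2 _ _).1 e, by simp⟩
  · obtain ⟨x, rfl⟩ := su x
    refine dec x (j.cen _ (cH x hx) fun l hl => OK j ?_)
    obtain ⟨a, e⟩ := (j.ran l).1 hl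
    exact (ker (x * ⟨l, LN e⟩ * x⁻¹ * (⟨l, LN e⟩ : N)⁻¹)).1 (by simp [(c a _ ⟨⟨l, LN e⟩, e, rfl⟩).eq])
  · obtain ⟨b, e⟩ := (j.ran _).1 j.gL
    exact ⟨b, ⟨g, gN⟩ * ⟨t, tN⟩ * (⟨g, gN⟩ : N)⁻¹, e, by rw [map_mul, map_mul, map_inv]⟩
  · exact j.gH (cH ⟨g, gN⟩ (mul_inv_eq_iff_eq_mul.1 e))

/-- The image of `C(O) ⊓ N` is normal in `Y` and contains `π t ≠ 1`, so it contains the range of `φ`.
`Γ = {x ∈ N ⊓ C(O) | π x ∈ range φ}` is a central extension of `B` with kernel of odd order, so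
`Γ' → B` is bijective (`Schur.card_stemKer_dvd`, `map_commutator_of_over`): `ψ` with
`π (ψ b) = φ b`. `J₀ a x := ∃ b, Ψ a (φ b) ∧ ψ b = x`; `ψ b = t o` is an involution, so `o = 1`. -/
theorem pull [Finite G] {B : Type*} [Group B] [IsSimpleGroup B] (nc : ¬ IsMulCommutative B)
    (hS : HasCyclicSchurMultiplier B 2) (hO : Odd (Nat.card O)) (ON : O ≤ N)
    (hN : N ≤ normalizer (O : Set G)) (π : N →* Y) (su : Function.Surjective π)
    (ker : ∀ x, π x = 1 ↔ x.1 ∈ O) (tN : t ∈ N) (t2 : t * t = 1) (t1 : t ≠ 1)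
    (tO : ∀ o ∈ O, Commute t o) (cN : ∀ x, Commute x t → x ∈ N) {Ψ : X → Y → Prop}
    (j : Em s τ (π ⟨t, tN⟩) Ψ) (φ : B →* Y) (i : Function.Injective φ)
    (r : ∀ y, y ∈ φ.range ↔ ∃ a, Ψ a y) : ∃ J₀, Eo s τ t O J₀ ∧ ∃ ψ : B →* G,
      Function.Injective ψ ∧ ∀ y, y ∈ ψ.range ↔ ∃ a, J₀ a y := by
  have tO' : π ⟨t, tN⟩ ≠ 1 := fun e =>
    t1 (pow_eq_of_odd hO ((ker _).1 e) (k := 1) (by rw [pow_one, pow_two, t2]))
  let C0 : Subgroup N := (centralizer (O : Set G)).subgroupOf N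
  have nC : C0.Normal := ⟨fun x hx n o ho => by
    have h1 : (n : G)⁻¹ * o * (n : G)⁻¹⁻¹ ∈ O := (hN (inv_mem n.2) o).1 ho
    have h2 := hx _ h1
    change o * (n * x * (n : G)⁻¹) = n * x * (n : G)⁻¹ * o
    change _ * (x : G) = x * _ at h2
    calc o * (n * x * (n : G)⁻¹) = n * ((n : G)⁻¹ * o * (n : G)⁻¹⁻¹ * x) * (n : G)⁻¹ := by group
      _ = _ := by rw [h2]; group⟩
  obtain ⟨b₀, hb₀⟩ := (r _).2 ⟨_, j.tt⟩
  have top : (C0.map π).comap φ = ⊤ :=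
    (IsSimpleGroup.eq_bot_or_eq_top_of_normal _ ((nC.map π su).comap φ)).resolve_left fun e => tO' (by
      have : b₀ ∈ (C0.map π).comap φ := ⟨⟨t, tN⟩, fun o ho => (tO o ho).eq.symm, hb₀.symm⟩
      rw [e, mem_bot] at this
      rw [← hb₀, this, map_one])
  let Γ : Subgroup N := C0 ⊓ φ.range.comap π
  let ξ : Γ →* B := (MonoidHom.ofInjective i).symm.toMonoidHom.comp
    ((π.comp Γ.subtype).codRestrict φ.range fun x => x.2.2)
  have hξ : ∀ x, φ (ξ x) = π x := fun x => MonoidHom.apply_ofInjective_symm i _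
  have kO : ∀ x, ξ x = 1 → ((x : N) : G) ∈ O := fun x hx => (ker _).1 (by rw [← hξ, hx, map_one])
  have ce : Schur.IsCentralExt ξ := ⟨fun b => by
      obtain ⟨x, hx, e⟩ : b ∈ (C0.map π).comap φ := top ▸ mem_top b
      exact ⟨⟨x, hx, b, e.symm⟩, i ((hξ _).trans e)⟩,
    fun x hx => Subgroup.mem_center_iff.2 fun y => Subtype.ext (Subtype.ext (y.2.1 _ (kO x hx)).symm)⟩
  have h2 : Nat.card (Schur.stemKer ξ) ∣ 2 := by simpa using Schur.card_stemKer_dvd hS ce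
  have inj : Function.Injective (ξ.comp (_root_.commutator Γ).subtype) :=
    (injective_iff_map_eq_one _).2 fun x hx => Subtype.ext (Subtype.ext (Subtype.ext
      (pow_eq_of_odd hO (kO x hx) (k := 1) (by
        have := orderOf_dvd_iff_pow_eq_one.1 ((orderOf_dvd_natCard
          (⟨x, hx, x.2⟩ : Schur.stemKer ξ)).trans h2)
        exact congrArg (fun y : Schur.stemKer ξ => ((y.1.1 : N) : G)) this))))
  have sur : Function.Surjective (ξ.comp (_root_.commutator Γ).subtype) := fun b => by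
    have := perfect_of_simple nc
    have : b ∈ (_root_.commutator Γ).map ξ := by
      rw [map_commutator_eq, MonoidHom.range_eq_top.2 ce.surj]
      exact Group.IsPerfect.mem_commutator
    obtain ⟨x, hx, e⟩ := this
    exact ⟨⟨x, hx⟩, e⟩
  let e := MulEquiv.ofBijective _ ⟨inj, sur⟩
  let ψ0 : B →* Γ := (_root_.commutator Γ).subtype.comp e.symm.toMonoidHom
  let ψ1 : B →* N := Γ.subtype.comp ψ0
  have h1 : ∀ b, π (ψ1 b) = φ b := fun b => (hξ (ψ0 b)).symm.trans (congrArg φ (e.apply_symm_apply b))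
  have hc : ∀ b, ∀ o ∈ O, Commute (ψ1 b : G) o := fun b o ho => ((ψ0 b).2.1 o ho).symm
  let ψ : B →* G := N.subtype.comp ψ1
  have iψ : Function.Injective ψ := fun a b h => i (by rw [← h1, ← h1, Subtype.ext h])
  refine ⟨fun a x => ∃ b, Ψ a (φ b) ∧ ψ b = x, ⟨⟨?_, ?_, ?_, 1, by rw [map_one]; exact j.os, map_one ψ⟩,
    fun e => e.elim fun _ e => j.dom e.1, fun a ha => ?_, ⟨b₀, hb₀ ▸ j.tt, ?_⟩, fun x hx => ?_, hO, ?_⟩, ψ, iψ,
    fun y => ⟨?_, fun e => e.elim fun _ e => e.elim fun b e => ⟨b, e.2⟩⟩⟩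
  · rintro a a' _ _ ⟨b, f, rfl⟩ ⟨b', f', rfl⟩
    exact ⟨b * b', (map_mul φ b b').symm ▸ j.mul f f', map_mul ψ b b'⟩
  · rintro a _ ⟨b, f, rfl⟩
    exact ⟨b⁻¹, (map_inv φ b).symm ▸ j.inv f, map_inv ψ b⟩
  · rintro a _ ⟨b, f, rfl⟩
    rw [← j.ker f, map_eq_one_iff ψ iψ, map_eq_one_iff φ i]
  · obtain ⟨y, f⟩ := j.ex a ha
    obtain ⟨b, rfl⟩ := (r y).2 ⟨a, f⟩
    exact ⟨_, b, f, rfl⟩
  · have o : t⁻¹ * ψ b₀ ∈ O := (ker ((⟨t, tN⟩ : N)⁻¹ * ψ1 b₀)).1 (by rw [map_mul, map_inv, h1, hb₀, inv_mul_cancel])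
    have b2 : b₀ * b₀ = 1 := i (by
      rw [map_mul, hb₀, ← map_mul, show (⟨t, tN⟩ * ⟨t, tN⟩ : N) = 1 from Subtype.ext t2, map_one, map_one])
    refine (inv_mul_eq_one.1 (pow_eq_of_odd hO o (k := 1) ?_)).symm
    have c : Commute t (ψ b₀) := by simpa using (Commute.refl t).mul_right (tO _ o)
    rw [pow_one, c.inv_left.mul_pow, inv_pow, pow_two, pow_two, t2, ← map_mul, b2, map_one, inv_one, mul_one]
  · obtain ⟨a, f⟩ := j.cen (π ⟨x, cN x hx⟩) (Commute.map (show Commute (⟨x, cN x hx⟩ : N) ⟨t, tN⟩ from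
      Subtype.ext hx) π)
    obtain ⟨b, hb⟩ := (r _).2 ⟨a, f⟩
    have := (ker ((ψ1 b)⁻¹ * ⟨x, cN x hx⟩)).1 (by rw [map_mul, map_inv, h1, hb, inv_mul_cancel])
    exact ⟨a, _, ⟨b, hb ▸ f, rfl⟩, this⟩
  · rintro a _ ⟨b, -, rfl⟩
    exact hc b
  · rintro ⟨b, rfl⟩
    obtain ⟨a, f⟩ := (r _).1 ⟨b, rfl⟩
    exact ⟨a, b, f, rfl⟩

end CL.BF
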