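import Cfsg.Agent.SPOR.BF.Def

/-!
The common cover of `C(s, τ)` and a standard subgroup.
-/

set_option autoImplicit false

namespace CL.BF

open Cfsg CL.Leech CL.MT CL.MO CL.MU CL.LX CL.MSS CL.BE CL.BE.Th Spor Subgroup
open CL.MP (W0 cm1 ov mem_ov four_mem_cj)

variable {X G : Type*} [Group X] [Group G] {z : X} {Q : Subgroup X} {R : leechLattice → X → Prop}
  {A : Co0 → X → Prop} {D : Set X} {s τ : X} {v u : leechLattice} {t : G} {J : X → G → Prop}

namespace StA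

open CL.Schur
open scoped commutatorElement

variable {Y M E : Type*} [Group Y] [Group M] [Group E]

/-- the common cover -/
def W (π : Y →* E) (σ : M →* E) : Subgroup (Y × M) := ⁅pullback π σ, pullback π σ⁆

theorem W_le {π : Y →* E} {σ : M →* E} {a : Y} {x : M} (h : (a, x) ∈ W π σ) : π a = σ x :=
  commutator_le_self _ h

theorem W_map {Y' M' E' : Type*} [Group Y'] [Group M'] [Group E'] {π : Y →* E} {σ : M →* E}
    {π' : Y' →* E'} {σ' : M' →* E'} (α : Y →* Y') (c : M →* M')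
    (h : ∀ a x, π a = σ x → π' (α a) = σ' (c x)) {a : Y} {x : M} (e : (a, x) ∈ W π σ) :
    (α a, c x) ∈ W π' σ' := by
  have k : (pullback π σ).map (α.prodMap c) ≤ pullback π' σ' := by
    rintro _ ⟨y, hy, rfl⟩
    exact h _ _ hy
  have := mem_map_of_mem (α.prodMap c) e
  rw [W, map_commutator] at this
  exact commutator_mono k k this

theorem mem_W {π : Y →* E} {σ : M →* E} {y : pullback π σ} (h : y ∈ commutator (pullback π σ)) :
    y.1 ∈ W π σ := by
  rw [W, ← map_subtype_commutator]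
  exact mem_map_of_mem _ h

theorem W_ex {π : Y →* E} {σ : M →* E} (hπ : IsCentralExt π) (hσ : IsCentralExt σ)
    (pY : Group.IsPerfect Y) (pM : Group.IsPerfect M) :
    (∀ a, ∃ x, (a, x) ∈ W π σ) ∧ ∀ x, ∃ a, (a, x) ∈ W π σ := by
  have hξ : IsCentralExt (π.comp (pbFst π σ)) := hπ.pb_comp (MonoidHom.id E) hσ
  refine ⟨fun a => ?_, fun x => ?_⟩
  · obtain ⟨y, hy, rfl⟩ := (map_commutator_of_over hξ.surj hπ.central (pbFst π σ) rfl).ge
      (Group.IsPerfect.mem_commutator (g := a))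
    exact ⟨_, mem_W hy⟩
  · obtain ⟨y, hy, rfl⟩ := (map_commutator_of_over hξ.surj hσ.central (pbSnd π σ)
      (MonoidHom.ext fun y => (mem_pullback.1 y.2).symm)).ge (Group.IsPerfect.mem_commutator (g := x))
    exact ⟨_, mem_W hy⟩

theorem W_three {B : Type*} [CommGroup B] (hS : HasSchurMultiplier E B) (hB : Nat.card B = 12)
    {π : Y →* E} {σ : M →* E} (hπ : IsCentralExt π) (hσ : IsCentralExt σ) (pY : Group.IsPerfect Y)
    (h4 : Nat.card π.ker = 4) {x : M} (h : (1, x) ∈ W π σ) : x ^ 3 = 1 := by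
  have hξ : IsCentralExt (π.comp (pbFst π σ)) := hπ.pb_comp (MonoidHom.id E) hσ
  have h1 := card_stemKer_dvd hS hξ
  let f := (pbFst π σ).comp (stemKer (π.comp (pbFst π σ))).subtype
  have h2 : f.range = π.ker := by
    rw [MonoidHom.range_comp, range_subtype, map_stemKer hξ.surj hπ.central _ rfl]
    exact inf_eq_left.2 fun _ _ => Group.IsPerfect.mem_commutator
  rw [hB, ← f.ker.card_mul_index, index_ker, h2, h4] at h1
  rw [W, ← map_subtype_commutator] at h
  obtain ⟨y, hy, e⟩ := h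
  have e1 : pbFst π σ y = 1 := congrArg Prod.fst e
  have := orderOf_dvd_iff_pow_eq_one.1 ((f.ker.orderOf_dvd_natCard
    (x := ⟨y, show π (pbFst π σ y) = 1 by rw [e1, map_one], hy⟩) e1).trans
    (Nat.dvd_of_mul_dvd_mul_right (by decide) (show _ ∣ 3 * 4 from h1)))
  rw [← show y.1.2 = x from congrArg Prod.snd e]
  exact congrArg (fun y : stemKer (π.comp (pbFst π σ)) => y.1.1.2) this

variable {κ κ' : X}

theorem core (H : T3 s τ κ κ') (pY : Group.IsPerfect (LL s τ)) (zE : center E = ⊥)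
    (hO : Nat.card (Out E) = 6) {π : LL s τ →* E} (su : Function.Surjective π)
    (ker : ∀ x, π x = 1 ↔ V4 s τ x.1) {L : Subgroup G} (pL : Group.IsPerfect L) {σ : L →* E}
    (su' : Function.Surjective σ) (hk : σ.ker = center L)
    (ti : ∀ g i, i * i = 1 → i ≠ 1 → i ∈ centralizer (L : Set G) →
      g * i * g⁻¹ ∈ centralizer (L : Set G) → g ∈ normalizer (L : Set G))
    (k1 : ∀ a, (a, 1) ∈ W π σ → a.1 = 1 ∨ a.1 = s) (k3 : ∀ x, (1, x) ∈ W π σ → x ^ 3 = 1) :
    ∃ J, St s τ L (centralizer (L : Set G)) (normalizer (L : Set G)) J := by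
  have cπ := central su ker
  obtain ⟨ex, ex'⟩ := W_ex cπ ⟨su', hk.le⟩ pY pL
  let J : X → G → Prop := fun a x => ∃ (m : a ∈ LL s τ) (m' : x ∈ L), (⟨a, m⟩, ⟨x, m'⟩) ∈ W π σ
  have zL : ∀ x : L, σ x = 1 ↔ x.1 ∈ centralizer (L : Set G) := fun x => by
    rw [← MonoidHom.mem_ker, hk, Subgroup.mem_center_iff]
    exact ⟨fun e y hy => congrArg Subtype.val (e ⟨y, hy⟩), fun e y => Subtype.ext (e y y.2)⟩
  have cen : ∀ h (hh : h ∈ normalizer (L : Set G)),
      (∀ l : L, σ (L.normalizerMonoidHom ⟨h, hh⟩ l) = σ l) → h ∈ centralizer (L : Set G) :=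
    fun h hh e l hl => by
      have := lift_unique_of_perfect pL hk.le (f := (L.normalizerMonoidHom ⟨h, hh⟩).toMonoidHom)
        (g := MonoidHom.id _) (MonoidHom.ext e)
      exact (mul_inv_eq_iff_eq_mul.1 (congrArg (fun φ : L →* L => (φ ⟨l, hl⟩ : G)) this)).symm
  refine ⟨J, ?_, ?_, fun e => e.1, fun a m => ?_, fun x => ⟨fun m => ?_, fun ⟨_, e⟩ => e.2.1⟩, ?_, ?_, ?_,
    fun l hl k hk => hk l hl, le_normalizer, centralizer_le_normalizer _,
    fun h hh k hk => (mem_normalizer_iff.1 (normalizer_le_normalizer_centralizer _ hh) k).1 hk,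
    fun h hh => ?_, ?_, fun h hh e => cen h hh fun l => ?_, ti⟩
  · rintro a b x y ⟨m1, m2, e⟩ ⟨n1, n2, f⟩
    exact ⟨mul_mem m1 n1, mul_mem m2 n2, mul_mem e f⟩
  · rintro a x ⟨m1, m2, e⟩
    exact ⟨inv_mem m1, inv_mem m2, inv_mem e⟩
  · obtain ⟨x, e⟩ := ex ⟨a, m⟩
    exact ⟨x, m, x.2, e⟩
  · obtain ⟨a, e⟩ := ex' ⟨x, m⟩
    exact ⟨a, a.2, m, e⟩
  · rintro a x ⟨m1, m2, e⟩
    exact (zL ⟨x, m2⟩).symm.trans (W_le e ▸ ker ⟨a, m1⟩)
  · rintro a ⟨m1, m2, e⟩
    exact k1 _ e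
  · rintro x ⟨m1, m2, e⟩
    exact congrArg Subtype.val (k3 _ e)
  · let c : MulAut L := L.normalizerMonoidHom ⟨h, hh⟩
    obtain ⟨β, hβ⟩ := exists_ind su' c fun y => by
      rw [← MonoidHom.mem_ker, ← MonoidHom.mem_ker, hk]
      exact MulEquivClass.apply_mem_center_iff c
    obtain ⟨n, hn⟩ := H.aut pY hO su ker β
    refine ⟨n, n.2, hh, fun a x => ⟨fun ⟨m1, m2, e⟩ => ⟨_, _, W_map (cj s τ n).toMonoidHom c.toMonoidHom
      (fun a x e => (hn a).symm.trans (e ▸ hβ x)) e⟩, fun ⟨m1, m2, e⟩ => ?_⟩⟩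
    have a1 := (mem_normalizer_iff.1 (NV_le n.2) a).2 m1
    have a2 := (mem_normalizer_iff.1 hh x).2 m2
    have := W_map (π' := π) (σ' := σ) (cj s τ n).symm.toMonoidHom c.symm.toMonoidHom (fun a x e =>
      β.injective (by
        change β (π ((cj s τ n).symm a)) = β (σ (c.symm x))
        rw [hn, hβ, MulEquiv.apply_symm_apply, MulEquiv.apply_symm_apply, e])) e
    refine ⟨a1, a2, ?_⟩
    rw [← (cj s τ n).symm_apply_apply ⟨a, a1⟩, ← c.symm_apply_apply ⟨x, a2⟩]
    exact this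
  · rintro n h ⟨hn, hh, e⟩
    refine ⟨fun k => ?_, fun k => cen h hh fun l => ?_⟩
    · have := lift_unique_of_perfect pY cπ.central (f := (cj s τ ⟨n, hn⟩).toMonoidHom)
        (g := MonoidHom.id _) (MonoidHom.ext fun a => by
          obtain ⟨x, e1⟩ := ex a
          obtain ⟨m1, m2, e2⟩ := (e a x).1 ⟨a.2, x.2, e1⟩
          refine (W_le e2).trans ((congrArg σ (Subtype.ext ?_)).trans (W_le e1).symm)
          exact mul_inv_eq_iff_eq_mul.2 (k x x.2).symm)
      have c : ∀ a : LL s τ, Commute n a := fun a =>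
        mul_inv_eq_iff_eq_mul.1 (congrArg (fun φ : LL s τ →* LL s τ => (φ a : X)) this)
      have m : n ∈ LL s τ := mem_LL.2 ⟨c ⟨s, H.s_mem⟩, c ⟨τ, H.t_mem⟩⟩
      refine (ker ⟨n, m⟩).1 (mem_bot.1 (zE ▸ mem_center_iff.2 fun y => ?_))
      obtain ⟨a, rfl⟩ := su y
      rw [← map_mul, ← map_mul]
      exact congrArg π (Subtype.ext (c a).symm)
    · obtain ⟨a, e1⟩ := ex' l
      obtain ⟨m1, m2, e2⟩ := (e a l).1 ⟨a.2, l.2, e1⟩
      refine (W_le e2).symm.trans ((congrArg π (Subtype.ext ?_)).trans (W_le e1))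
      exact mul_inv_eq_iff_eq_mul.2 (comm_V4 a.2 k).symm
  · rw [← mul_inv_eq_one, ← map_inv, ← map_mul, zL]
    exact e l l.2

end StA

open StA Schur in
/-- Compare `BE.exists_ch` (copy the construction of `T3` and of `pL`) and `Th.exists_over`.
`σ : L →* E` with kernel `Z(L)`, `Γ = pullback π σ`, `J a x := ⟨a, x⟩ ∈ Γ'`. `Γ' → LL` and `Γ' → L`
are onto (`map_commutator_of_over`), `stemKer` has order dividing `12` (`card_stemKer_dvd`) and maps onto
`V` (`map_stemKer`), so `{x | J 1 x}` has order dividing `3`. If `J c 1` for all `c ∈ V` then `Z(L)` has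
exponent `3`; so `{a | J a 1}` is `{1}` or `{1, c}`, and replacing `π` by `π ∘ cj n` (`T3`) we get
`c = s`. `nex`: `exists_ind`, `T3.aut`; the pair of conjugations is an automorphism of `Γ`, it preserves
`Γ'`. `nker`, `cen`: `lift_unique_of_perfect` (a homomorphism from a perfect group to a central
subgroup is trivial), `Z(E) = 1`. -/
theorem exists_st [Finite X] [Finite G] (h : Fm z Q R A D s τ v u) {E : Type*} [Group E]
    [IsSimpleGroup E] (nc : ¬ IsMulCommutative E) {B : Type*} [CommGroup B]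
    (hS : HasSchurMultiplier E B) (hB : Nat.card B = 12) (hO : Nat.card (Out E) = 6)
    (π : LL s τ →* E) (su : Function.Surjective π) (ker : ∀ x, π x = 1 ↔ V4 s τ x.1)
    {L : Subgroup G} (pL : Group.IsPerfect L) (e : L ⧸ center L ≃* E) (ev : Even (Nat.card (center L)))
    (ti : ∀ g i, i * i = 1 → i ≠ 1 → i ∈ centralizer (L : Set G) →
      g * i * g⁻¹ ∈ centralizer (L : Set G) → g ∈ normalizer (L : Set G)) :
    ∃ J, St s τ L (centralizer (L : Set G)) (normalizer (L : Set G)) J := by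
  obtain ⟨κ, κ', H⟩ : ∃ κ κ', T3 s τ κ κ' := by
    obtain ⟨κ, -, k1, k2⟩ := h.exists_out
    obtain ⟨κ', -, k4, k3⟩ := h.swap.exists_out
    rw [← h.cts.eq] at k3
    replace k1 := mul_inv_eq_iff_eq_mul.2 k1.eq
    replace k4 := mul_inv_eq_iff_eq_mul.2 k4.eq
    refine ⟨κ, κ', h.ss, h.tt, h.cts, h.s_ne, h.swap.s_ne, fun e => h.ne_one h.tsD (by rw [e, h.ss]),
      k1, k2, k3, k4, mem_normalizer_fintype ?_, mem_normalizer_fintype ?_⟩
    · rintro _ (rfl | rfl | rfl | rfl)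
      · exact Or.inl (by simp)
      · exact Or.inr (Or.inl k1)
      · exact Or.inr (Or.inr (Or.inr k2))
      · exact Or.inr (Or.inr (Or.inl (by rw [← conj_mul, k1, k2, mul_assoc, h.ss, mul_one])))
    · rintro _ (rfl | rfl | rfl | rfl)
      · exact Or.inl (by simp)
      · exact Or.inr (Or.inr (Or.inr k3))
      · exact Or.inr (Or.inr (Or.inl k4))
      · exact Or.inr (Or.inl (by rw [← conj_mul, k3, k4, ← mul_assoc, h.tt, one_mul]))
  have pE := perfect_of_simple nc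
  have cπ := central su ker
  have pY : Group.IsPerfect (LL s τ) := by
    have k : ∀ a : LL s τ, a.1 ∈ PP z s τ → a ∈ commutator (LL s τ) := fun a ha => by
      obtain ⟨b, hb, e⟩ := h.perf (F := (commutator (LL s τ)).map (LL s τ).subtype) (fun p hp q hq =>
        ⟨_, commutator_mem_commutator (mem_top (⟨p, hp.1⟩ : LL s τ)) (mem_top ⟨q, hq.1⟩), rfl⟩) ha
      exact (Subtype.ext e : b = a) ▸ hb
    refine perfect_of_stem ⟨su, cπ.central, fun a ha => k a ?_⟩ pE
    rcases (ker a).1 ha with e | e | e | e <;> rw [e]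
    exacts [one_mem _, h.s_PP, h.t_PP, mul_mem h.t_PP h.s_PP]
  have zE : center E = ⊥ := (IsSimpleGroup.eq_bot_or_eq_top_of_normal _ inferInstance).resolve_right
    fun e => nc ⟨⟨fun a b => mem_center_iff.1 (e.ge (mem_top b)) a⟩⟩
  let σ : L →* E := e.toMonoidHom.comp (QuotientGroup.mk' _)
  have su' : Function.Surjective σ := e.surjective.comp (QuotientGroup.mk'_surjective _)
  have hk : σ.ker = center L := by
    ext x
    rw [MonoidHom.mem_ker, ← QuotientGroup.eq_one_iff]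
    exact map_eq_one_iff _ e.injective
  let s' : LL s τ := ⟨s, H.s_mem⟩
  let τ' : LL s τ := ⟨τ, H.t_mem⟩
  have ts1 : τ * s ≠ 1 := fun e => H.ts (mul_right_cancel (e.trans H.ss.symm))
  have h4 : ∀ π : LL s τ →* E, (∀ x, π x = 1 ↔ V4 s τ x.1) → Nat.card π.ker = 4 := fun π ker => by
    rw [← SetLike.coe_sort_coe, show (π.ker : Set (LL s τ)) = {1, s', τ', τ' * s'} from Set.ext fun x => by
      simp only [SetLike.mem_coe, MonoidHom.mem_ker, ker, Set.mem_insert_iff, Set.mem_singleton_iff,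
        Subtype.ext_iff]
      rfl, Nat.card_coe_set_eq, Set.ncard_insert_of_notMem, Set.ncard_insert_of_notMem, Set.ncard_pair]
    all_goals simp [Subtype.ext_iff, s', τ', H.s1, H.t1, H.s1.symm, H.t1.symm, H.ts.symm, ts1.symm]
  have main : ∀ n : NV s τ, (∀ a, (cj s τ n a, 1) ∈ W π σ → a.1 = 1 ∨ a.1 = s) → ∃ J,
      St s τ L (centralizer (L : Set G)) (normalizer (L : Set G)) J := fun n k => by
    have su1 := su.comp (cj s τ n).surjective
    have ker1 : ∀ x, π.comp (cj s τ n).toMonoidHom x = 1 ↔ V4 s τ x.1 := fun x =>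
      (ker _).trans (mem_NV n.2)
    exact core H pY zE hO su1 ker1 pL su' hk ti (fun a e => k a
      (W_map (cj s τ n).toMonoidHom (MonoidHom.id _) (fun _ _ e => e) e))
      fun x => W_three hS hB (central su1 ker1) ⟨su', hk.le⟩ pY (h4 _ ker1)
  have cs : ∀ a : LL s τ, V4 s τ a → a = 1 ∨ a = s' ∨ a = τ' ∨ a = τ' * s' := fun a ha =>
    ha.imp Subtype.ext (Or.imp Subtype.ext (Or.imp Subtype.ext Subtype.ext))
  have vw : ∀ a, (a, 1) ∈ W π σ → V4 s τ a := fun a e => (ker a).1 ((W_le e).trans (map_one σ))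
  have nall : ¬ ((s', 1) ∈ W π σ ∧ (τ', 1) ∈ W π σ) := fun ⟨a1, a2⟩ => by
    obtain ⟨x, hx⟩ := exists_prime_orderOf_dvd_card' (hp := ⟨Nat.prime_two⟩) 2 ev.two_dvd
    obtain ⟨a, e⟩ := (W_ex cπ ⟨su', hk.le⟩ pY pL).2 x
    have : (a, 1) ∈ W π σ := by
      rcases cs a ((ker a).1 ((W_le e).trans (hk.ge x.2))) with rfl | rfl | rfl | rfl
      exacts [one_mem _, a1, a2, by simpa using mul_mem a2 a1]
    have := W_three hS hB cπ ⟨su', hk.le⟩ pY (h4 π ker) (x := x)
      (by simpa using mul_mem (inv_mem this) e)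
    have := orderOf_dvd_of_pow_eq_one this
    rw [orderOf_coe, hx] at this
    omega
  have fin : ∀ n : NV s τ, (cj s τ n τ', 1) ∉ W π σ → (cj s τ n (τ' * s'), 1) ∉ W π σ → ∃ J,
      St s τ L (centralizer (L : Set G)) (normalizer (L : Set G)) J := fun n n1 n2 => main n fun a e => by
    rcases cs a ((mem_NV n.2).1 (vw _ e)) with rfl | rfl | rfl | rfl
    exacts [Or.inl rfl, Or.inr rfl, absurd e n1, absurd e n2]
  have ss : s' * s' = 1 := Subtype.ext H.ss
  have tt : τ' * τ' = 1 := Subtype.ext H.tt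
  by_cases a2 : (τ', 1) ∈ W π σ
  · have a1 : (s', 1) ∉ W π σ := fun a1 => nall ⟨a1, a2⟩
    have cc : ∀ x, κ * κ' * x * (κ * κ')⁻¹ = κ * (κ' * x * κ'⁻¹) * κ⁻¹ := fun x => by group
    have e1 : cj s τ (⟨κ, H.m1⟩ * ⟨κ', H.m2⟩) s' = τ' := Subtype.ext (by
      change κ * κ' * s * (κ * κ')⁻¹ = τ
      rw [cc, H.k3, ← conj_mul, H.k1, H.k2, mul_assoc, H.ss, mul_one])
    have e2 : cj s τ (⟨κ, H.m1⟩ * ⟨κ', H.m2⟩) τ' = τ' * s' := Subtype.ext (by
      change κ * κ' * τ * (κ * κ')⁻¹ = τ * s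
      rw [cc, H.k4, H.k2])
    refine fin (⟨κ, H.m1⟩ * ⟨κ', H.m2⟩) (fun e => a1 ?_) fun e => a1 ?_
    · rw [e2] at e
      simpa using mul_mem (inv_mem a2) e
    · rw [map_mul, e1, e2] at e
      simpa [mul_assoc] using mul_mem (mul_mem (inv_mem a2) e) (inv_mem a2)
  by_cases a3 : (τ' * s', 1) ∈ W π σ
  · have e1 : cj s τ ⟨κ', H.m2⟩ s' = τ' * s' := Subtype.ext H.k3
    have e2 : cj s τ ⟨κ', H.m2⟩ τ' = τ' := Subtype.ext H.k4
    refine fin ⟨κ', H.m2⟩ (by rwa [e2]) fun e => a2 ?_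
    simpa [e1, e2, mul_assoc] using mul_mem e (inv_mem a3)
  · exact fin 1 (by rwa [map_one]) (by rwa [map_one])

end CL.BF
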