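import Cfsg.Agent.SPOR.BE.Theta

/-!
Standard subgroups of type `²E₆(2)` with centre of even order: definitions.
-/

set_option autoImplicit false

namespace CL.BF

open Cfsg CL.BE CL.BE.Th Subgroup

variable {X G : Type*} [Group X] [Group G]

/-- some element of the coset `n V` lies over the class `2A` of the Baby Monster -/
def C1 (D : Set X) (s τ n : X) : Prop := ∃ c, V4 s τ c ∧ XT D s τ (n * c)

/-- facts about the model `2².²E₆(2).S₃` -/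
structure S1 (s τ : X) (C : X → Prop) : Prop where
  ss : s * s = 1
  tt : τ * τ = 1
  cts : Commute τ s
  s1 : s ≠ 1
  t1 : τ ≠ 1
  ts : τ ≠ s
  rho : ∃ ρ : NV s τ →* Equiv.Perm (Fin 3), ∀ n, ρ n = 1 ↔ n.1 ∈ LL s τ
  sq : ∀ y ∈ LL s τ, V4 s τ (y * y) → y * y = 1
  q8 : ∀ y ∈ LL s τ, y * y = 1 → ¬ V4 s τ y → ¬ C y → ∃ a ∈ LL s τ, ∃ b ∈ LL s τ,
    (a * a = y ∨ a * a = y * s) ∧ b * b = a * a ∧ a * b * (a * b) = a * a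
  lemA : ∀ a ∈ LL s τ, a * a = 1 → ¬ C a → ∃ S ≤ LL s τ, IsPGroup 2 S ∧ (∀ r ∈ S, Commute r a) ∧
    ∀ n ∈ NV s τ, ∀ e, (e = 1 ∨ V4 s τ (e * a)) → (V4 s τ (n * n) ∨ V4 s τ (n * n * a)) →
      (∀ r ∈ S, ∀ w, w = n * r * n⁻¹ * r⁻¹ → w = 1 ∨ w = e ∨ Commute n s ∧ (w = s ∨ w = e * s)) →
        V4 s τ n ∨ V4 s τ (n * a) ∨ C n ∨ C (n * a)
  out2 : ∀ n ∈ NV s τ, n ∉ LL s τ → V4 s τ (n * n) → ∃ S ≤ LL s τ, IsPGroup 2 S ∧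
    (∀ r ∈ S, n * r * n⁻¹ ∈ S) ∧ ∃ p ∈ S, ∃ q ∈ S, Commute p (n * q * n⁻¹ * q⁻¹) ∧
      ∀ r ∈ [p, q, p * q], ∀ w, w = n * r * n⁻¹ * r⁻¹ → w * w = 1 ∧ w ≠ 1 ∧ (w = s → ¬ Commute n s)
  cls1 : ∀ n, C n → n ∈ LL s τ ∧ ∃ P ≤ LL s τ, τ ∈ P ∧ (∀ p ∈ P, Commute p n) ∧
    (∀ F : Subgroup X, (∀ p ∈ P, ∀ q ∈ P, p * q * p⁻¹ * q⁻¹ ∈ F) → P ≤ F) ∧
    (∀ N ≤ P, (∀ p ∈ P, ∀ a ∈ N, p * a * p⁻¹ ∈ N) → τ ∈ N ∨
      ∀ a ∈ N, a * a = 1 ∧ ∀ b ∈ N, V4 s τ a ∨ V4 s τ b ∨ V4 s τ (a * b)) ∧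
    ∃ T ≤ P, IsPGroup 2 T ∧ Nat.card T = 2 ^ 38
  big : ∀ S ≤ LL s τ, IsPGroup 2 S → Nat.card S ≤ 2 ^ 38 ∧ (Nat.card S = 2 ^ 38 →
    ∀ n ∈ NV s τ, ∀ m ∈ NV s τ, (∀ r ∈ S, V4 s τ (n * r * n⁻¹ * r⁻¹)) →
      (∀ r ∈ S, V4 s τ (m * r * m⁻¹ * r⁻¹)) → V4 s τ n ∨ V4 s τ m ∨ V4 s τ (n * m))

/-- `n` and `h` induce the same automorphism -/
def NR (s τ : X) (H : Subgroup G) (J : X → G → Prop) (n : X) (h : G) : Prop :=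
  n ∈ NV s τ ∧ h ∈ H ∧ ∀ a x, J a x ↔ J (n * a * n⁻¹) (h * x * h⁻¹)

/-- `L` is standard, `K = C(L)`, `H = N(L)`; `J` is a common perfect cover of `C(s, τ)` and `L` -/
structure St (s τ : X) (L K H : Subgroup G) (J : X → G → Prop) : Prop where
  mul : ∀ {a b x y}, J a x → J b y → J (a * b) (x * y)
  inv : ∀ {a x}, J a x → J a⁻¹ x⁻¹
  dom : ∀ {a x}, J a x → a ∈ LL s τ
  ex : ∀ a ∈ LL s τ, ∃ x, J a x
  ran : ∀ x, x ∈ L ↔ ∃ a, J a x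
  ker : ∀ {a x}, J a x → (x ∈ K ↔ V4 s τ a)
  k1 : ∀ {a}, J a 1 → a = 1 ∨ a = s
  k3 : ∀ {x}, J 1 x → x ^ 3 = 1
  cm : ∀ l ∈ L, ∀ k ∈ K, Commute l k
  LH : L ≤ H
  KH : K ≤ H
  nK : ∀ h ∈ H, ∀ k ∈ K, h * k * h⁻¹ ∈ K
  nex : ∀ h ∈ H, ∃ n, NR s τ H J n h
  nker : ∀ {n h}, NR s τ H J n h → (h ∈ K ↔ V4 s τ n)
  cen : ∀ h ∈ H, (∀ l ∈ L, h * l * h⁻¹ * l⁻¹ ∈ K) → h ∈ K
  ti : ∀ g i, i * i = 1 → i ≠ 1 → i ∈ K → g * i * g⁻¹ ∈ K → g ∈ H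

/-- the structure of `K` -/
structure So (s τ : X) (L K H O : Subgroup G) (t g : G) (J : X → G → Prop) : Prop
    extends St s τ L K H J where
  tt : J τ t
  t2 : t * t = 1
  os : J s 1
  gH : g ∉ H
  gL : g * t * g⁻¹ ∈ L
  odd : Odd (Nat.card O)
  mO : ∀ k, k ∈ O ↔ k ∈ K ∧ Odd (orderOf k)
  dec : ∀ k ∈ K, k ∈ O ∨ k * t ∈ O
  gO : g ∈ normalizer (O : Set G)

/-- `BE.Ch` without `nrm'`: index at most two -/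
structure Ch0 (s τ : X) (t : G) (J : X → G → Prop) : Prop extends PJ s J where
  dom : ∀ {a x}, J a x → a ∈ LL s τ
  ex : ∀ a ∈ LL s τ, ∃ x, J a x
  tt : J τ t
  idx : ∀ x y, Commute x t → Commute y t → (∃ a, J a x) ∨ (∃ a, J a y) ∨ ∃ a, J a (x * y)
  nrm : ∀ h, Commute h t → ∃ n, HH s τ n ∧ ∀ a x, J a x → J (n * a * n⁻¹) (h * x * h⁻¹)
  out : ∀ h, Commute h t → (∀ a x, J a x → Commute h x) → h = 1 ∨ h = t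

/-- `BE.Em` up to a subgroup `O` of odd order centralizing the image -/
structure Eo (s τ : X) (t : G) (O : Subgroup G) (J : X → G → Prop) : Prop extends PJ s J where
  dom : ∀ {a x}, J a x → Commute a s
  ex : ∀ a, Commute a s → ∃ x, J a x
  tt : J τ t
  cen : ∀ x, Commute x t → ∃ a y, J a y ∧ y⁻¹ * x ∈ O
  odd : Odd (Nat.card O)
  cO : ∀ {a x}, J a x → ∀ o ∈ O, Commute x o

theorem pow_eq_of_odd {O : Subgroup G} (hO : Odd (Nat.card O)) {o : G} (m : o ∈ O) {k : ℕ}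
    (e : o ^ 2 ^ k = 1) : o = 1 :=
  orderOf_eq_one_iff.1 (Nat.eq_one_of_dvd_coprimes ((Nat.coprime_two_left.2 hO).pow_left k)
    (orderOf_dvd_of_pow_eq_one e) (orderOf_dvd_natCard _ m))

namespace Eo

variable {s τ : X} {t : G} {O : Subgroup G} {J : X → G → Prop} (j : Eo s τ t O J)
include j

/-- a `2`-element of `range · O` lies in the range -/
theorem two [Finite G] {a y x} (e : J a y) (m : y⁻¹ * x ∈ O) {k : ℕ} (hx : x ^ 2 ^ k = 1) :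
    ∃ b, J b x := by
  obtain ⟨o, rfl⟩ : ∃ o, x = y * o := ⟨y⁻¹ * x, by simp⟩
  rw [inv_mul_cancel_left] at m
  obtain ⟨i, -, hi⟩ := Nat.exists_mul_mod_eq_one_of_coprime ((Nat.coprime_two_right.2 j.odd).pow_right (k + 1))
    (Nat.one_lt_pow (by omega) one_lt_two)
  refine ⟨a ^ (Nat.card O * i), ?_⟩
  have h1 : (y * o) ^ (Nat.card O * i) = y * o := by
    rw [← Nat.div_add_mod (Nat.card O * i) (2 ^ (k + 1)), hi, pow_succ, pow_mul, pow_succ 2, pow_mul, hx]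
    simp
  have h2 : o ^ Nat.card O = 1 := congrArg Subtype.val (pow_card_eq_one' (x := (⟨o, m⟩ : O)))
  rw [← h1, (j.cO e o m).mul_pow, pow_mul o, h2, one_pow, mul_one]
  exact j.pow e _

theorem cen2 [Finite G] {x} (c : Commute x t) {k : ℕ} (hx : x ^ 2 ^ k = 1) : ∃ b, J b x :=
  let ⟨_, _, e, m⟩ := j.cen x c
  j.two e m hx

/-- the subgroup `range · O` -/
def G1 : Subgroup G where
  carrier := {x | ∃ a y, J a y ∧ y⁻¹ * x ∈ O}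
  one_mem' := ⟨1, 1, j.one, by simp⟩
  mul_mem' := fun {x x'} ⟨_, y, e, m⟩ ⟨_, y', e', m'⟩ => ⟨_, _, j.mul e e', by
    rw [show (y * y')⁻¹ * (x * x') = y'⁻¹ * (y⁻¹ * x) * x' by group, (j.cO (j.inv e') _ m).eq, mul_assoc]
    exact mul_mem m m'⟩
  inv_mem' := fun {x} ⟨_, y, e, m⟩ => ⟨_, _, j.inv e, by
    rw [show y⁻¹⁻¹ * x⁻¹ = y * (y⁻¹ * x)⁻¹ * y⁻¹ by group, (j.cO e _ (inv_mem m)).eq, mul_inv_cancel_right]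
    exact inv_mem m⟩

theorem mem_G1 {a x} (e : J a x) : x ∈ j.G1 := ⟨a, x, e, by simp⟩

theorem O_le : O ≤ j.G1 := fun _ m => ⟨1, 1, j.one, by simpa using m⟩

end Eo

end CL.BF
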