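import Cfsg.Agent.SPOR.BF.Def

/-!
Rigidity of `C(z, s, τ) / ⟨s⟩` without an outer automorphism.
-/

set_option autoImplicit false

namespace CL.BF

open Cfsg CL.Leech CL.MT CL.MO CL.MU CL.LX CL.MSS CL.BE CL.BE.Th Spor Subgroup
open CL.MP (W0 cm1 ov mem_ov four_mem_cj)

variable {X G : Type*} [Group X] [Group G] {z : X} {Q : Subgroup X} {R : leechLattice → X → Prop}
  {A : Co0 → X → Prop} {D : Set X} {s τ : X} {v u : leechLattice} {t : G} {J : X → G → Prop}

open MulAction CL.BE.Lc in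
/-- Copy `BE.aut_stab` up to `key`. -/
theorem aut_stab' (hu : Sht u) (hv : Sht v) (huv : dt u v = 16) {T : Co0 → Co0 → Prop}
    (ex : ∀ k, k • v = v → k • u = u → ∃ k', T k k')
    (dom : ∀ {k k'}, T k k' → (k • v = v ∧ k • u = u) ∧ k' • v = v ∧ k' • u = u)
    (mul : ∀ {a b c d}, T a b → T c d → T (a * c) (b * d)) (ker : ∀ {a b}, T a b → (a = 1 ↔ b = 1)) :
    ∃ (g : Co0) (i j : Fin 3), i ≠ j ∧ g • v = ![v, u, v - u] i ∧
      (g • u = ![v, u, v - u] j ∨ g • u = -![v, u, v - u] j) ∧ ∀ k k', T k k' → k' = g * k * g⁻¹ := by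
  have hvu : dt v u = 16 := (dt_comm _ _).trans huv
  have c6 := card_out hu hv huv
  obtain ⟨U, hU⟩ : ∃ U : Subgroup Co0, U = stabilizer Co0 v ⊓ stabilizer Co0 u := ⟨_, rfl⟩
  rw [← hU] at c6
  have mU : ∀ k, k ∈ U ↔ k • v = v ∧ k • u = u := fun k => by rw [hU]; rfl
  have uniq : ∀ {a b b'}, T a b → T a b' → b = b' := fun {a b b'} h h' => by
    obtain ⟨c, hc⟩ := ex a⁻¹ (by rw [inv_smul_eq_iff, (dom h).1.1]) (by rw [inv_smul_eq_iff, (dom h).1.2])
    exact mul_left_cancel (a := c) (((ker (mul hc h)).1 (inv_mul_cancel a)).trans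
      ((ker (mul hc h')).1 (inv_mul_cancel a)).symm)
  have ex' : ∀ k : U, ∃ k' : U, T k k' := fun k => by
    obtain ⟨k', h⟩ := ex k ((mU k).1 k.2).1 ((mU k).1 k.2).2
    exact ⟨⟨k', (mU k').2 (dom h).2⟩, h⟩
  choose b hb using ex'
  let β : U →* U := MonoidHom.mk' b fun x y => Subtype.ext (uniq (hb (x * y)) (mul (hb x) (hb y)))
  have βi : Function.Injective β := (injective_iff_map_eq_one β).2 fun x e =>
    Subtype.ext ((ker (hb x)).2 (congrArg Subtype.val e))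
  let B : MulAut U := MulEquiv.ofBijective β (Finite.injective_iff_bijective.1 βi)
  have wm : ∀ a : Fin 3, ![v, u, v - u] a ∈ W0 u v := fun a => by
    fin_cases a
    exacts [right_mem u v, left_mem u v, sub_mem (right_mem u v) (left_mem u v)]
  have wf : ∀ k ∈ U, ∀ a : Fin 3, k • ![v, u, v - u] a = ![v, u, v - u] a := fun k hk a => by
    obtain ⟨k1, k2⟩ := (mU k).1 hk
    fin_cases a
    exacts [k1, k2, by show k • (v - u) = v - u; rw [smul_sub, k1, k2]]
  choose g g1 g2 using exists_six hu hv huv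
  have gv : ∀ p, g p • v ∈ W0 u v := fun p => g1 p ▸ wm _
  have gu : ∀ p, g p • u ∈ W0 u v := fun p => by
    rcases g2 p with e | e <;> rw [e]
    exacts [wm _, neg_mem (wm _)]
  have gc : ∀ p, Cong (g p • u) (![v, u, v - u] p.1.2) := fun p => by
    rcases g2 p with e | e <;> rw [e]
    exacts [.refl _, cong_neg _]
  have gn : ∀ p, g p ∈ normalizer (U : Set Co0) := fun p => by
    refine inv_mem_iff.1 (mem_normalizer_fintype fun k hk => (mU _).2 ⟨?_, ?_⟩)
    · rw [inv_inv, mul_smul, mul_smul, g1, wf k hk, ← g1, inv_smul_smul]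
    · rw [inv_inv, mul_smul, mul_smul, inv_smul_eq_iff]
      rcases g2 p with e | e <;> rw [e]
      exacts [wf k hk _, by rw [smul_neg, wf k hk]]
  let f : {p : Fin 3 × Fin 3 // p.1 ≠ p.2} → Out U := fun p =>
    QuotientGroup.mk (U.normalizerMonoidHom ⟨g p, gn p⟩)
  have fi : Function.Injective f := fun p q e => by
    obtain ⟨k, hk⟩ := QuotientGroup.eq.1 e
    obtain ⟨k1, k2⟩ := (mU k).1 k.2
    have w : ∀ y ∈ W0 u v, ((k : Co0)⁻¹ * (g p)⁻¹ * g q) • y ∈ W0 u v := fun y hy => by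
      rw [mul_smul, mul_smul]
      exact inv_smul_W0 (k1.symm ▸ right_mem u v) (k2.symm ▸ left_mem u v)
        (inv_smul_W0 (gv p) (gu p) (smul_W0 (gv q) (gu q) hy))
    have c := center_of_comm hu hv huv (w v (right_mem u v)) (w u (left_mem u v)) fun x x1 x2 => by
      have := congrArg (fun φ : MulAut U => (φ ⟨x, (mU x).2 ⟨x1, x2⟩⟩ : Co0)) hk
      simp only [← map_inv, ← map_mul, MulAut.conj_apply, normalizerMonoidHom_apply_apply_coe,
        coe_mul, InvMemClass.coe_inv] at this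
      calc (k : Co0)⁻¹ * (g p)⁻¹ * g q * x = (k : Co0)⁻¹ * ((g p)⁻¹ * g q * x * ((g p)⁻¹ * g q)⁻¹) *
          ((g p)⁻¹ * g q) := by group
        _ = _ := by rw [← this]; group
    have d : ∀ y, (k : Co0) • y = y → Cong (g q • y) (g p • y) := fun y hy => by
      have := ((cong_of_mem_center c y).smul (k : Co0)).smul (g p)
      rwa [hy, mul_smul, mul_smul, smul_inv_smul, smul_inv_smul] at this
    have d1 := d v k1
    rw [g1, g1] at d1
    exact Subtype.ext (Prod.ext (w_inj hu hv huv d1).symm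
      (w_inj hu hv huv ((gc p).symm.trans ((d u k2).symm.trans (gc q)))))
  have : Finite (Out U) := Nat.finite_of_card_ne_zero (by omega)
  obtain ⟨p, hp⟩ := ((Nat.bijective_iff_injective_and_card f).2 ⟨fi, by
    rw [c6, Nat.card_eq_fintype_card]; rfl⟩).2 (QuotientGroup.mk B)
  obtain ⟨k, hk⟩ := QuotientGroup.eq.1 hp
  obtain ⟨k1, k2⟩ := (mU k).1 k.2
  obtain ⟨G, hG⟩ : ∃ G, G = g p * k := ⟨_, rfl⟩
  have Gv : G • v = g p • v := by rw [hG, mul_smul, k1]
  have Gu : G • u = g p • u := by rw [hG, mul_smul, k2]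
  have key : ∀ x x', T x x' → x' = G * x * G⁻¹ := fun x x' h => by
    have m := (mU x).2 (dom h).1
    have := congrArg (fun φ : MulAut U => (φ ⟨x, m⟩ : Co0)) (eq_inv_mul_iff_mul_eq.1 hk)
    simp only [MulAut.mul_apply, MulAut.conj_apply, normalizerMonoidHom_apply_apply_coe,
      coe_mul, InvMemClass.coe_inv] at this
    rw [uniq h (hb ⟨x, m⟩), hG]
    exact this.symm.trans (by group)
  exact ⟨G, p.1.1, p.1.2, p.2, Gv ▸ g1 p, Gu ▸ g2 p, key⟩

open CL.BE.Lc in open CL.MP (smul_mem_W0) in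
/-- `PA.e1` without `nrm`. Take `g` from `aut_stab'` and `γ ∈ C(z)` over `g` (`ex_c`); `γ` normalizes
`Q`, `PP` and `Z = closure {z, s, τ}`. For `T' a b := T a (γ b γ⁻¹)` we have `A k a → A k b`, `T' z z`,
`T'` preserves `Q` (`PA.mem_Q`) and `Z` (`PA.self`), and is a function modulo `s' = γ⁻¹ s γ`. Steps `s1`,
`s2` of `PA.of_same` (`endo`, `perp_le_of_comm`) give `T' a a ∨ T' a (a z)` for `a ∈ Q ⊓ PP`; for
`a = s`, with `T' s 1`, `s' ∈ {s, s z}`, so `g v ≡ v`, `i = 0` (`Lc.w_inj`), and then `g u = u` or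
`v - u` (inner product with `v`). Finish as `PA.e1` (`lift3`, `twist`, `of_same`). -/
theorem _root_.CL.BE.PA.e1' [Finite X] {T : X → X → Prop} (H : PA z s τ T)
    (h : Fm z Q R A D s τ v u) :
    ∃ g, Commute g z ∧ HH s τ g ∧ ∀ a ∈ PP z s τ, T a (g * a * g⁻¹) := by
  obtain ⟨k, i, j, ne, k1, k2, k3⟩ := aut_stab' h.hu h.hv h.huv
    (T := fun k k' => ∃ a b, T a b ∧ A k a ∧ A k' b ∧ k • v = v ∧ k' • v = v) (fun k k1 k2 => by
      obtain ⟨a, ha, hA⟩ := h.lift2 k1 k2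
      obtain ⟨b, hb⟩ := H.ex a ha
      obtain ⟨k', a1, a2, -⟩ := h.exists_k2 (H.dom hb).2
      exact ⟨k', a, b, hb, hA, a1, k1, a2⟩)
    (fun ⟨_, _, a, b, c, d, e⟩ => ⟨⟨d, h.ku_of b d (mem_PP.1 (H.dom a).1).1.2⟩, e,
      h.ku_of c e (mem_PP.1 (H.dom a).2).1.2⟩)
    (fun ⟨_, _, a, b, c, d, e⟩ ⟨_, _, a', b', c', d', e'⟩ => ⟨_, _, H.mul a a', h.A_mul b b',
      h.A_mul c c', by rw [mul_smul, d', d], by rw [mul_smul, e', e]⟩)
    (fun ⟨_, _, a, b, c, d, e⟩ => ⟨fun f => eq_one_of_center h.hv e ((h.A_ker c).1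
      (H.mem_Q h a ((h.A_ker b).2 (f ▸ one_mem _)))), fun f => eq_one_of_center h.hv d
      ((h.A_ker b).1 (H.symm.mem_Q h a ((h.A_ker c).2 (f ▸ one_mem _))))⟩)
  have hvu : dt v u = 16 := (dt_comm _ _).trans h.huv
  have wm : ∀ a : Fin 3, ![v, u, v - u] a ∈ W0 u v := fun a => by
    fin_cases a
    exacts [right_mem u v, left_mem u v, sub_mem (right_mem u v) (left_mem u v)]
  have gv : k • v ∈ W0 u v := k1 ▸ wm _
  have gu : k • u ∈ W0 u v := by
    rcases k2 with e | e <;> rw [e]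
    exacts [wm _, neg_mem (wm _)]
  have lift : ∀ g : Co0, g • v = v → g • u = u → ∃ p q g', T p q ∧ A g p ∧ A g' q ∧ g' • v = v ∧
      g' • u = u ∧ ∀ y : leechLattice, k • g • y = g' • k • y := fun g g1 g2 => by
    obtain ⟨p, hp, hA⟩ := h.lift2 g1 g2
    obtain ⟨q, hq⟩ := H.ex p hp
    obtain ⟨g', a1, a2, a3⟩ := h.exists_k2 (H.dom hq).2
    refine ⟨p, q, g', hq, hA, a1, a2, a3, fun y => ?_⟩
    rw [k3 g g' ⟨p, q, hq, hA, a1, g1, a2⟩, mul_smul, mul_smul, inv_smul_smul]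
  have s1 : ∀ x, Pp u v x → ∃ a b y, R x a ∧ T a b ∧ R y b ∧ k • x - y ∈ W0 u v := fun x hx =>
    endo h.hu h.hv h.huv
      (S := fun x y => ∃ a b y', R x a ∧ T a b ∧ R y' b ∧ k • y - y' ∈ W0 u v) (fun x hx => by
        obtain ⟨a, ha⟩ := h.ex_x x
        obtain ⟨b, hb⟩ := H.ex a ((h.R_PP ha).2 hx)
        obtain ⟨y, hy⟩ := h.ex_v b (H.mem_Q h hb (h.R_mem ha))
        exact ⟨k⁻¹ • y, a, b, y, ha, hb, hy, by simp⟩)
      (fun ⟨_, _, _, a, b, c, d⟩ ⟨_, _, _, a', b', c', d'⟩ => ⟨_, _, _, h.R_mul a a', H.mul b b',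
        h.R_mul c c', by convert add_mem d d' using 1; rw [smul_add]; abel⟩)
      (fun {x y x' y'} ⟨a, b, w, a1, b1, c1, d1⟩ e e' => by
        obtain ⟨c, hc⟩ := h.ex_x (x' - x)
        exact ⟨_, _, _, by simpa using h.R_mul a1 hc, H.mul b1 (H.self (h.exists_W0 e hc)),
          h.R_mul c1 hc, by
            convert sub_mem (add_mem d1 (smul_W0 gv gu e')) e using 1; rw [smul_sub]; abel⟩)
      (fun {x y} ⟨a, b, w, a1, b1, c1, d1⟩ => by
        have e1 : w ∈ W0 u v ↔ k • y ∈ W0 u v := by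
          simpa using (add_mem_cancel_left (x := k • y - w) (y := w) d1).symm
        refine Iff.trans ⟨fun e => h.W0_of_Z ?_ c1, fun e => h.W0_of_Z ?_ a1⟩
          (e1.trans ⟨fun e => by simpa using inv_smul_W0 gv gu e, smul_W0 gv gu⟩)
        · have m := h.exists_W0 e a1
          rcases H.uniq (H.self m) b1 with e | e <;> rw [e]
          exacts [m, mul_mem m (subset_closure (by simp))]
        · have m := h.exists_W0 e c1
          rcases H.symm.uniq (H.self m) b1 with e | e <;> rw [e]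
          exacts [m, mul_mem m (subset_closure (by simp))])
      (fun g g1 g2 x y ⟨a, b, w, a1, b1, c1, d1⟩ => by
        obtain ⟨p, q, g', hq, hA, hB, a2, a3, a4⟩ := lift g g1 g2
        exact ⟨_, _, _, h.R_conj hA a1, H.cj hq b1, h.R_conj hB c1,
          by simpa [a2, a3, a4, smul_sub] using smul_mem_W0 g' d1⟩) hx
  let S : AddSubgroup leechLattice :=
    { carrier := {x | ∃ a b, R x a ∧ T a b ∧ R (k • x) b}
      zero_mem' := ⟨1, 1, h.R_zero, H.one, by simpa using h.R_zero⟩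
      add_mem' := fun ⟨_, _, a, b, c⟩ ⟨_, _, a', b', c'⟩ => ⟨_, _, h.R_mul a a', H.mul b b', by
        rw [smul_add]; exact h.R_mul c c'⟩
      neg_mem' := fun ⟨_, _, a, b, c⟩ => ⟨_, _, h.R_of_cong a (cong_neg _).symm, b, by
        rw [smul_neg]; exact h.R_of_cong c (cong_neg _).symm⟩ }
  obtain ⟨a, b, a1, a2, a3⟩ : v ∈ S := perp_le_of_comm h.hu h.hv h.huv (S := S)
    (fun y => ⟨1, 1, h.R_of_cong h.R_zero ⟨-y, by simp⟩, H.one,
      h.R_of_cong h.R_zero ⟨-(k • y), by simp [smul_comm k 2 y]⟩⟩)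
    (fun g g1 g2 y hy => by
      obtain ⟨p, q, g', hq, hA, hB, a2, a3, a4⟩ := lift g g1 g2
      obtain ⟨c, d, w, c1, c2, c3, c4⟩ := s1 y hy
      refine ⟨_, _, h.R_of_cong (h.R_cm hA c1) (add_comm y _ ▸ (cong_sub _ _).symm),
        H.mul (H.cj hq c2) (H.inv c2), h.R_of_cong (h.R_cm hB c3) ?_⟩
      have := cong_of_fix a2 a3 c4
      rw [smul_sub] at this
      rw [smul_sub, a4]
      exact MU.cg this.symm w)
    ((h.R_PP h.rs).1 h.s_PP)
  have i0 : i = 0 := by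
    have n0 := not_cong0 (h.hv.smul k)
    refine w_inj h.hu h.hv h.huv (k1 ▸ ?_)
    change Cong (k • v) v
    rcases h.cases_of h.rs a1 with rfl | rfl
    · rcases H.uniq H.so a2 with rfl | rfl
      · exact absurd (h.cong_of a3 h.R_zero) n0
      · exact h.cong_of a3 (by simpa using h.rs)
    · rcases H.uniq (H.mul H.so H.zz) a2 with rfl | rfl
      · exact absurd (h.cong_of a3 (h.R_z h.R_zero)) n0
      · exact h.cong_of a3 (by simpa [(h.cz h.rs).eq] using h.R_z h.rs)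
  subst i0
  change k • v = v at k1
  have k4 : k • u = u ∨ k • u = v - u := by
    have e1 : dt v (k • u) = 16 := by rw [← hvu, ← dt_smul k v u, k1]
    fin_cases j
    · exact absurd rfl ne
    · refine .inl (k2.resolve_right fun e => ?_)
      rw [e, dt_neg] at e1
      change -dt v u = 16 at e1
      omega
    · refine .inr (k2.resolve_right fun e => ?_)
      rw [e, dt_neg] at e1
      change -dt v (v - u) = 16 at e1
      rw [dt_sub, dt_self h.hv] at e1
      omega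
  obtain ⟨g, g1, g2⟩ := h.lift3 k1 k4
  have gz : Commute g z := h.A_comm g1
  obtain ⟨r, -, r2, r3⟩ := (H.twist gz g2).of_same h fun {a b l} e hl => by
    obtain ⟨m, m1, m2, -⟩ := h.exists_k2 (H.dom e).1
    obtain ⟨m', n1, n2, -⟩ := h.exists_k2 (H.dom e).2
    have h1 := h.A_mul (h.A_mul (h.A_inv g1) n1) g1
    rw [k3 m m' ⟨_, _, e, m1, n1, m2, n2⟩] at h1
    have h2 : A m b := by simpa [mul_assoc] using h1
    simpa [mul_assoc] using h.A_center h2 ((h.A_ker (h.A_mul hl (h.A_inv m1))).1 (by simp))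
  refine ⟨g * r, gz.mul_left (mem_PP.1 r2).2, ⟨g2.1.mul_left (mem_PP.1 r2).1.1, ?_⟩,
    fun a ha => by simpa [mul_assoc] using r3 a ha⟩
  rw [mul_inv_rev, mul_assoc g, (mem_PP.1 r2).1.2.eq, ← mul_assoc, ← mul_assoc, mul_inv_cancel_right]
  exact g2.2

end CL.BF
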