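import Cfsg.Agent.SPOR.BF.Def
import Cfsg.Agent.SPOR.BF.GS
import Cfsg.Agent.SPOR.BE.GenA

/-!
The centralizer of the image `ζ` of `z` lies in `G1 = range · O`.
-/

set_option autoImplicit false

namespace CL.BF

open Cfsg CL.Leech CL.MT CL.MO CL.MU CL.LX CL.MSS CL.BE CL.BE.Th Spor Subgroup
open CL.MP (W0 cm1 ov mem_ov four_mem_cj)

variable {X G : Type*} [Group X] [Group G] {z : X} {Q : Subgroup X} {R : leechLattice → X → Prop}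
  {A : Co0 → X → Prop} {D : Set X} {s τ : X} {v u : leechLattice} {t : G} {J : X → G → Prop}

namespace Eo

variable {O : Subgroup G} [Finite G] (h : Fm z Q R A D s τ v u) (c : Cl z D s τ) (j : Eo s τ t O J)
include h c j

omit [Finite G] h c in
theorem ga_cj {b q y p} (e : J b q) (m : y⁻¹ * p ∈ O) : p * q * p⁻¹ = y * q * y⁻¹ := by
  rw [show p * q * p⁻¹ = y * (y⁻¹ * p * q * (y⁻¹ * p)⁻¹) * y⁻¹ by group, ← (j.cO e _ m).eq,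
    mul_inv_cancel_right]

omit [Finite G] h c in
theorem ga_mul {a y x y' x'} (e' : J a y') (m : y⁻¹ * x ∈ O) (m' : y'⁻¹ * x' ∈ O) :
    (y * y')⁻¹ * (x * x') ∈ O := by
  rw [show (y * y')⁻¹ * (x * x') = y'⁻¹ * (y⁻¹ * x) * x' by group, (j.cO (j.inv e') _ m).eq, mul_assoc]
  exact mul_mem m m'

omit [Finite G] h c in
theorem ga_inv {a y x} (e : J a y) (m : y⁻¹ * x ∈ O) : y⁻¹⁻¹ * x⁻¹ ∈ O := by
  rw [show y⁻¹⁻¹ * x⁻¹ = y * (y⁻¹ * x)⁻¹ * y⁻¹ by group, (j.cO e _ (inv_mem m)).eq, mul_inv_cancel_right]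
  exact inv_mem m

omit [Finite G] c in
theorem ga_tt : t * t = 1 := j.fw (j.mul j.tt j.tt) (h.tt ▸ j.one)

omit [Finite G] c in
theorem ga_ne : t ≠ 1 := fun e => ((j.ker j.tt).1 e).elim (h.ne_one h.tD) fun e =>
  h.ne_one h.tsD (by rw [e, h.ss])

omit [Finite G] c in
/-- the elements over `0` and `v` -/
theorem ga_zv {ζ y a p} (hz : J z ζ) (ha : R y a) (hp : J a p) :
    (p = 1 ∨ p = ζ) ↔ Cong y 0 ∨ Cong y v := by
  have hs := j.mul j.os hz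
  rw [one_mul] at hs
  constructor
  · rintro (e | rfl)
    · rcases (j.ker hp).1 e with rfl | rfl
      exacts [.inl (h.cong_of ha h.R_zero), .inr (h.cong_of ha h.rs)]
    · rcases j.bw hz hp with rfl | rfl
      · exact .inl (h.cong_of ha (one_mul a ▸ h.R_z h.R_zero))
      · exact .inr (h.cong_of ha ((h.cz h.rs).eq ▸ h.R_z h.rs))
  · rintro (e | e)
    · exact (h.cases_of h.R_zero (h.R_of_cong ha e)).imp (fun e => j.fw hp (by rw [e]; exact j.one))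
        fun e => j.fw hp (by rwa [e, one_mul])
    · exact (h.cases_of h.rs (h.R_of_cong ha e)).imp (fun e => j.fw hp (by rw [e]; exact j.os))
        fun e => j.fw hp (by rwa [e])

omit [Finite G] c in
/-- points are conjugate to `t` -/
theorem ga_pt {a} (hQ : a ∈ Q) (h1 : a ∈ D) (h2 : a * s ∈ D) :
    ∃ g p, Commute g z ∧ J g p ∧ J a (p * t * p⁻¹) := by
  obtain ⟨g, g1, g2, rfl⟩ := h.adj_Q h.sD h.tD h1 h.tsD h2 (h.R_mem h.rs) (h.R_mem h.rt) hQ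
  obtain ⟨p, hp⟩ := j.ex g g2
  exact ⟨g, p, g1, hp, j.cj hp j.tt⟩

omit [Finite G] c in
theorem ga_pt' {r a} (ha : R r a) (hr : Sht r) (rv : dt r v = 16) :
    ∃ g p, Commute g z ∧ J g p ∧ J a (p * t * p⁻¹) :=
  j.ga_pt h (h.R_mem ha) (h.of_R ha hr) (h.of_R (h.R_of_cong (h.R_mul ha h.rs)
    (add_comm v r ▸ cong_sub v r).symm) (sht_sub hr h.hv rv))

/-- `x` commutes with `t`, `J a x`, `a² ∈ {τ, τ s}` commutes with `a`, so `a ∈ LL`; `Cl.sq`. -/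
theorem not_sq (x : G) : x * x ≠ t := by
  intro e
  obtain ⟨a, ha⟩ := j.cen2 (x := x) (k := 2) (e ▸ (Commute.refl x).mul_right (Commute.refl x)) (by
    rw [show x ^ 2 ^ 2 = x * x * (x * x) by simp only [← pow_two, ← pow_mul], e, j.ga_tt h])
  have h1 := j.bw j.tt (e ▸ j.mul ha ha)
  have h2 : Commute a (a * a) := (Commute.refl a).mul_right (Commute.refl a)
  have h3 := c.sq a (mem_LL.2 ⟨j.dom ha, h1.elim (fun e => e ▸ h2) fun e => by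
    rw [← mul_inv_cancel_right τ s, ← e]
    exact h2.mul_right (j.dom ha).inv_right⟩) (.inr (.inr h1))
  rw [h3] at h1
  exact h1.elim (fun e => h.ne_one h.tD e.symm) fun e => h.ne_one h.tsD e.symm

/-- otherwise one of `a, a s` is `j' = m z m⁻¹` (`two`), and `root` in the frame `conj' m` gives
`x` commuting with `s` with `x² = j'`; `not_sq`. -/
theorem fa [Finite X] {g a} (e : J a (g * t * g⁻¹)) (a2 : a * a = 1) : a ∈ D ∧ a * s ∈ D := by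
  have key : ∀ a, J a (g * t * g⁻¹) → a * a = 1 → a ∈ D := fun a e a2 => by
    refine (h.two a2 fun e1 => j.ga_ne h (conj_eq_one_iff.1 ((j.ker e).2 (.inl e1)))).resolve_right
      fun e1 => ?_
    obtain ⟨m, rfl⟩ := isConj_iff.1 e1
    obtain ⟨x, -, x1, x2⟩ := (h.conj' m).root h.sD (j.dom e).symm
    obtain ⟨ξ, hξ⟩ := j.ex x x1
    refine j.not_sq h c (g⁻¹ * ξ * g) ?_
    rw [show g⁻¹ * ξ * g * (g⁻¹ * ξ * g) = g⁻¹ * (ξ * ξ) * g by group, j.fw (j.mul hξ hξ) (x2 ▸ e)]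
    group
  refine ⟨key a e a2, key _ (j.mul_s e) ?_⟩
  rw [(j.dom e).symm.mul_mul_mul_comm, a2, h.ss, mul_one]

/-- `t ζ` is conjugate to `t` under `J (Q ∩ C(s))` (`exists_sw`), so `y ζ` is conjugate to `t`,
`y = x t x⁻¹`. If `a² = 1`: `fa` for `a`, `a z`, so `a ∈ Q` (`mem_Q`), `adj_Q` conjugates `τ` to `a` in
`C(z, s)`, then `cen`. If `a² = s`: `k` over `a` (`exists_k`, `sq_k`), `k ∉ center` (else `a ∈ Q`,
`a² ∈ {1, z}`). For `b ∈ Q ∩ C(s)` over `p` with `32 ∣ norm (p + k p)`, `J b β`: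
`w = y β y⁻¹ β⁻¹` is an involution, `β y β⁻¹ = w⁻¹ y`, so `w` commutes with `y` and
`w' = x⁻¹ w x ∈ C(t, ζ)`, `t w'`, `t w' ζ` are conjugate to `t`. `S p`: `w'` has a lift in `LL`
(lifts are `HH` by `comm'`; `w_{p+q} ∈ {w_p w_q, w_p w_q ζ}`; `HH.two`). `exists_three`. A lift
`w̃ ∈ LL` commutes with `z` (`cent_z`), `w̃² = 1` (`Cl.sq`), `fa` gives `τ w̃, τ w̃ s, τ w̃ z ∈ D`, so
`τ w̃ ∈ Q` lies over a point `Pt v (u + wᵢ)` (`ex_dot`); the three lifts commute (commutators in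
`{1, s} ∩ {1, z}`). `no_cube`. -/
theorem fix [Finite X] {ζ x a} (hz : J z ζ) (hx : Commute x ζ) (e : J a (x * t * x⁻¹))
    (az : Commute a z) : x ∈ j.G1 := by
  have tt := j.ga_tt h
  have zz := h.zz
  obtain ⟨q, -, q1, q2⟩ := h.exists_sw
  obtain ⟨γ, hγ⟩ := j.ex q q1
  have e1 : x * t * x⁻¹ * ζ = x * γ * t * (x * γ)⁻¹ := by
    rw [show x * γ * t * (x * γ)⁻¹ = x * (γ * t * γ⁻¹) * x⁻¹ by group,
      j.fw (j.cj hγ j.tt) (q2 ▸ j.mul j.tt hz), mul_assoc _ x⁻¹, hx.inv_left.eq]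
    group
  have yy : x * t * x⁻¹ * (x * t * x⁻¹) = 1 := by rw [conj_mul, tt]; group
  obtain a2 | a2 := (j.ker (j.mul e e)).1 yy
  · obtain ⟨h1, h2⟩ := j.fa h c e a2
    obtain ⟨g, p, -, hp, e2⟩ := j.ga_pt h (h.mem_Q h1 (j.fa h c (e1 ▸ j.mul e hz)
      (by rw [az.symm.mul_mul_mul_comm, a2, zz, mul_one])).1) h1 h2
    have hb : p⁻¹ * x ∈ j.G1 := j.cen (p⁻¹ * x) (by
      rw [Commute, SemiconjBy, ← mul_inv_eq_iff_eq_mul, mul_inv_rev, inv_inv, mul_assoc p⁻¹, mul_assoc p⁻¹,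
        ← mul_assoc (x * t), j.fw e e2]
      group)
    simpa using mul_mem (j.mem_G1 hp) hb
  exfalso
  obtain ⟨k, hk, kv⟩ := h.exists_k h.rs h.hv az (j.dom e)
  have k2 := h.sq_k hk (a2 ▸ h.R_mem h.rs) h.hv kv
  let B := fun p : leechLattice => Ort v p ∧ (32 : ℤ) ∣ sqNorm (p + k • p).1
  have F : ∀ {p W w}, B p → R (p + k • p) W → J W w → x⁻¹ * w * x * (x⁻¹ * w * x) = 1 ∧
      Commute (x⁻¹ * w * x) ζ ∧ (∃ g, t * (x⁻¹ * w * x) = g * t * g⁻¹) ∧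
      ∃ g, t * (x⁻¹ * w * x) * ζ = g * t * g⁻¹ := fun {p W w} hp hW hw => by
    obtain ⟨b, hb⟩ := h.ex_x p
    obtain ⟨β, hβ⟩ := j.ex b ((h.comm_iff h.rs hb).2 hp.1).symm
    have h0 := j.mul (j.cj e hβ) (j.inv hβ)
    have bz := j.comm hβ hz (h.cz hb)
    have c1 : t * (x⁻¹ * (x * t * x⁻¹ * β * (x * t * x⁻¹)⁻¹ * β⁻¹) * x) =
        x⁻¹ * β * (x * t * x⁻¹) * β⁻¹ * x := by
      rw [inv_eq_of_mul_eq_one_right yy]
      simp only [mul_assoc, inv_mul_cancel_left]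
      rw [← mul_assoc t, tt, one_mul]
    have c2 : x⁻¹ * β * (x * t * x⁻¹) * β⁻¹ * x * ζ = x⁻¹ * β * (x * γ) * t * (x⁻¹ * β * (x * γ))⁻¹ := by
      rw [mul_assoc _ x ζ, hx.eq, ← mul_assoc _ ζ, mul_assoc _ β⁻¹, bz.inv_left.eq, ← mul_assoc _ ζ,
        mul_assoc _ _ ζ, e1]
      group
    have c3 : x⁻¹ * β * (x * t * x⁻¹) * β⁻¹ * x = x⁻¹ * β * x * t * (x⁻¹ * β * x)⁻¹ := by group
    refine ⟨?_, (hx.inv_left.mul_left (j.comm hw hz (h.cz hW))).mul_left hx, ?_⟩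
    · rw [show x⁻¹ * w * x * (x⁻¹ * w * x) = x⁻¹ * (w * w) * x by group,
        j.fw (j.mul hw hw) ((h.sq_iff hW).2 hp.2 ▸ j.one)]
      group
    rcases h.cases_of (h.R_cm hk hb) hW with rfl | rfl
    · rw [j.fw hw h0, c1]
      exact ⟨⟨_, c3⟩, _, c2⟩
    · rw [j.fw hw (j.mul h0 hz), ← mul_assoc x⁻¹, mul_assoc _ ζ, ← hx.eq, ← mul_assoc _ x, ← mul_assoc t,
        c1, mul_assoc _ ζ, j.fw (j.mul hz hz) (zz ▸ j.one), mul_one]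
      exact ⟨⟨_, c2⟩, _, c3⟩
  let T := fun (p : leechLattice) (d : X) => ∃ W w, R (p + k • p) W ∧ J W w ∧ J d (x⁻¹ * w * x)
  have Tm : ∀ {p d p' d'}, T p d → T p' d' → T (p + p') (d * d') :=
    fun ⟨_, _, a1, a2, a3⟩ ⟨_, _, b1, b2, b3⟩ => ⟨_, _, by
      rw [smul_add, add_add_add_comm]; exact h.R_mul a1 b1, j.mul a2 b2, by
      simpa [mul_assoc] using j.mul a3 b3⟩
  have ex : ∀ p, B p → ∃ d, T p d ∧ HH s τ d := fun p hp => by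
    obtain ⟨W, hW⟩ := h.ex_x (p + k • p)
    obtain ⟨w, hw⟩ := j.ex W ((h.comm_iff h.rs hW).2
      (ort_add.2 (by rw [← ort_smul k v p, kv]))).symm
    obtain ⟨h1, -, ⟨g, h2⟩, -⟩ := F hp hW hw
    have h3 : Commute (x⁻¹ * w * x) t := by
      have : g * t * g⁻¹ * (g * t * g⁻¹) = 1 := by rw [conj_mul, tt]; group
      rw [← h2] at this
      rw [Commute, SemiconjBy, ← inv_eq_of_mul_eq_one_right this, mul_inv_rev,
        inv_eq_of_mul_eq_one_right tt, inv_eq_of_mul_eq_one_right h1]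
    obtain ⟨d, hd⟩ := j.cen2 (k := 1) h3 (by rw [pow_one, pow_two, h1])
    exact ⟨d, ⟨W, w, hW, hw, hd⟩, j.dom hd, j.comm' hd j.tt h3⟩
  obtain ⟨p1, p2, p3, h1, h2⟩ := exists_three k2 (fun e => (h.lx.sq a ((h.A_ker hk).2 e)).elim
    (fun e => h.s_ne (a2.symm.trans e)) fun e => h.s_ne_z (a2.symm.trans e)) h.hv kv
    (S := fun p => ∃ d ∈ LL s τ, T p d) fun p p' a1 a2 b1 b2 => by
      obtain ⟨d, d1, d2⟩ := ex p ⟨a1, a2⟩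
      obtain ⟨d', d1', d2'⟩ := ex p' ⟨b1, b2⟩
      exact (d2.two h.ss d2').imp (fun e => ⟨d, e, d1⟩)
        (Or.imp (fun e => ⟨d', e, d1'⟩) fun e => ⟨_, e, Tm d1 d1'⟩)
  have K : ∀ {p d}, B p → d ∈ LL s τ → T p d → d * d = 1 ∧ τ * d ∈ Q ∧ τ * d ∈ D ∧ τ * d * s ∈ D :=
    fun {p d} hp m ⟨W, w, hW, hw, hd⟩ => by
      obtain ⟨f1, f2, ⟨g, f3⟩, g', f4⟩ := F hp hW hw
      have dz := h.cent_z (j.comm' hd hz f2)
      have dd := c.sq d m (((j.ker (j.mul hd hd)).1 f1).imp_right .inl)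
      have d2 : τ * d * (τ * d) = 1 := by
        rw [(mem_LL.1 m).2.mul_mul_mul_comm, h.tt, dd, mul_one]
      obtain ⟨a1, a2⟩ := j.fa h c (f3 ▸ j.mul j.tt hd) d2
      refine ⟨dd, h.mem_Q a1 (j.fa h c (f4 ▸ j.mul (j.mul j.tt hd) hz) ?_).1, a1, a2⟩
      rw [((h.cz h.rt).mul_left dz).symm.mul_mul_mul_comm, d2, zz, mul_one]
  let U := fun p ω : leechLattice => B p ∧ ∃ d ∈ LL s τ, T p d ∧ R ω d
  have Ua : ∀ {p ω p' ω'}, U p ω → U p' ω' → U (p + p') (ω + ω') := by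
    rintro p ω p' ω' ⟨a, _, a1, a2, a3⟩ ⟨b, _, b1, b2, b3⟩
    exact ⟨⟨ort_add.2 (iff_of_true a.1 b.1),
      Lb.nm_add_dvd k2 a.2 b.2⟩, _, mul_mem a1 b1, Tm a2 b2, h.R_mul a3 b3⟩
  have U0 : ∀ {p}, (∃ d ∈ LL s τ, T p d) ∧ B p → ∃ ω, U p ω := fun ⟨⟨d, d1, d2⟩, hp⟩ =>
    let ⟨ω, e⟩ := h.ex_v d ((mul_mem_cancel_left (h.R_mem h.rt)).1 (K hp d1 d2).2.1)
    ⟨ω, hp, d, d1, d2, e⟩
  have U1 : ∀ {p ω}, U p ω → Pt v (u + ω) := fun ⟨hp, d, d1, d2, d3⟩ => by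
    obtain ⟨-, a1, a2, a3⟩ := K hp d1 d2
    obtain ⟨r, r1, r2, r3⟩ := h.ex_dot h.rs h.hv a1 a2 a3
    exact ⟨-r, Sht.neg r2, (dot_neg_left _ _).trans (by rw [r3]; rfl),
      (h.cong_of (h.R_mul h.rt d3) r1).trans (cong_neg r).symm⟩
  have U2 : ∀ {p ω}, U p ω → ¬ Cong (p + k • p) 0 ∧ ¬ Cong (p + k • p) v → ¬ Cong ω 0 ∧ ¬ Cong ω v :=
    fun ⟨_, d, _, ⟨W, w, hW, hw, hd⟩, d3⟩ e => by
      rw [← not_or] at e ⊢
      rw [← j.ga_zv h hz d3 hd]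
      rw [← j.ga_zv h hz hW hw] at e
      refine fun f => e (f.imp (fun f => by simpa [mul_assoc, inv_mul_eq_one] using f) fun f => ?_)
      rw [← mul_inv_cancel_right ζ x, ← hx.eq, ← f]
      group
  have U3 : ∀ {p ω p' ω'}, U p ω → U p' ω' → Ort ω u ∧ Ort ω ω' :=
    fun {p ω p' ω'} ⟨a, d, a1, a2, a3⟩ ⟨b, d', b1, b2, b3⟩ => by
      refine ⟨(h.comm_iff a3 h.rt).1 (mem_LL.1 a1).2, (h.comm_iff a3 b3).1 ?_⟩
      rw [← inv_eq_of_mul_eq_one_right (K (p := p + p') ⟨ort_add.2 (iff_of_true a.1 b.1),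
        Lb.nm_add_dvd k2 a.2 b.2⟩ (mul_mem a1 b1) (Tm a2 b2)).1, mul_inv_rev,
        inv_eq_of_mul_eq_one_right (K a a1 a2).1, inv_eq_of_mul_eq_one_right (K b b1 b2).1]
  simp only [List.mem_cons, List.not_mem_nil, or_false, forall_eq_or_imp, forall_eq] at h1 h2
  obtain ⟨w1, u1⟩ := U0 h1.1
  obtain ⟨w2, u2⟩ := U0 h1.2.1
  obtain ⟨w3, u3⟩ := U0 h1.2.2
  obtain ⟨n1, n2, n3, n4, n5, n6, n7⟩ := h2
  refine no_cube (u := u) h.hv (w₁ := w1) (w₂ := w2) (w₃ := w3) ?_ ?_ ?_ <;>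
    simp only [List.mem_cons, List.not_mem_nil, or_false, forall_eq_or_imp, forall_eq]
  · exact ⟨⟨u, h.hu, h.huv, La.cong_of_eq (add_zero u)⟩, U1 u1, U1 u2, U1 u3, U1 (Ua u1 u2), U1 (Ua u1 u3),
      U1 (Ua u2 u3), U1 (Ua (Ua u1 u2) u3)⟩
  · exact ⟨U2 u1 n1, U2 u2 n2, U2 u3 n3, U2 (Ua u1 u2) n4, U2 (Ua u1 u3) n5, U2 (Ua u2 u3) n6,
      U2 (Ua (Ua u1 u2) u3) n7⟩
  · exact ⟨⟨(U3 u1 u1).1, (U3 u1 u1).2, (U3 u1 u2).2, (U3 u1 u3).2⟩,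
      ⟨(U3 u2 u1).1, (U3 u2 u1).2, (U3 u2 u2).2, (U3 u2 u3).2⟩,
      (U3 u3 u1).1, (U3 u3 u1).2, (U3 u3 u2).2, (U3 u3 u3).2⟩

/-- `GQ2.le` for `Y = C(ζ)`, `Z = zpowers ζ`, `P = G1 ⊓ C(ζ)`, `A = j.im (Q ⊓ C(s))`, `a = t`,
`F = stabilizer Co0 v`, `B p f := ∃ a y, J a y ∧ y⁻¹ p ∈ O ∧ A f a`. -/
theorem cz [Finite X] {ζ x} (hz : J z ζ) (hx : Commute x ζ) : x ∈ j.G1 := by
  have tt := j.ga_tt h
  have ζζ : ζ * ζ = 1 := j.fw (j.mul hz hz) (h.zz ▸ j.one)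
  have ζ1 : ζ ≠ 1 := fun e => ((j.ker hz).1 e).elim h.lx.z_ne h.s_ne_z.symm
  have mZ : ∀ {y}, y ∈ zpowers ζ ↔ y = 1 ∨ y = ζ := mem_zpowers_of_sq ζζ
  let P := j.G1 ⊓ centralizer {ζ}
  let E := j.im (Q ⊓ centralizer {s})
  have mP : ∀ {a p}, J a p → Commute a z → p ∈ P := fun e a => ⟨j.mem_G1 e, cm1.2 (j.comm e hz a)⟩
  have dP : ∀ {p}, p ∈ P → ∃ a y, J a y ∧ y⁻¹ * p ∈ O ∧ Commute a z := fun {p} ⟨⟨a, y, e, m⟩, m'⟩ =>
    ⟨a, y, e, m, h.cent_z (j.comm' e hz (by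
      simpa using (cm1.1 m').mul_left (j.cO hz _ m).symm.inv_left))⟩
  have tP : ∀ {p k}, p ∈ P → p ^ 2 ^ k = 1 → ∃ a, J a p ∧ Commute a z := fun ⟨⟨_, _, e, m⟩, m'⟩ f =>
    let ⟨b, hb⟩ := j.two e m f
    ⟨b, hb, h.cent_z (j.comm' hb hz (cm1.1 m'))⟩
  have mE : ∀ {a p}, J a p → a ∈ Q → p ∈ E := fun e a => ⟨_, ⟨a, cm1.2 (j.dom e)⟩, e⟩
  have EP : E ≤ P := fun _ ⟨a, m, e⟩ => mP e (h.lx.z_comm a m.1)
  have lf : ∀ y, Ort v y → ∃ a p, R y a ∧ J a p := fun y hy =>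
    let ⟨a, ha⟩ := h.ex_x y
    let ⟨p, hp⟩ := j.ex a ((h.comm_iff h.rs ha).2 hy).symm
    ⟨a, p, ha, hp⟩
  have cm : ∀ {a b p q}, J a p → J b q → (a * b * a⁻¹ = b ∨ a * b * a⁻¹ = b * z) → b ∈ Q →
      p * q * p⁻¹ * q⁻¹ ∈ zpowers ζ := fun {a b p q} ha hb e m => by
    have := j.mul (j.cj ha hb) (j.inv hb)
    refine mZ.2 (e.imp (fun e => j.fw this ?_) fun e => j.fw this ?_) <;> rw [e]
    · rw [mul_inv_cancel]; exact j.one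
    · rwa [h.lx.z_comm b m, mul_inv_cancel_right]
  have cE : ∀ x ∈ E, ∀ y ∈ E, x * y * x⁻¹ * y⁻¹ ∈ zpowers ζ := fun _ ⟨a, m, e⟩ _ ⟨b, m', e'⟩ =>
    cm e e' (h.lx.conj_cases m'.1 m.1) m'.1
  have ker : ∀ {a p k}, J a p → A k a → k • v = v →
      (∀ x ∈ E, p * x * p⁻¹ * x⁻¹ ∈ zpowers ζ) → k = 1 := fun {a p k} ha hk kv e =>
    eq_one_of_center h.hv kv (center_of_perp (a := v) (f := v) (ort_self h.hv) fun y hy _ => by
      obtain ⟨b, q, hb, hq⟩ := lf y hy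
      exact ((j.ga_zv h hz (h.R_cm hk hb) (j.mul (j.cj ha hq) (j.inv hq))).1
        (mZ.1 (e q (mE hq (h.R_mem hb))))).imp (fun e => cg e (-y)) fun e => cg e (-y))
  have := Iv.simple_stab h.hv
  suffices x ∈ P from this.1
  refine GQ2.le (F := MulAction.stabilizer Co0 v) (Y := centralizer {ζ}) (Z := zpowers ζ) (A := E) (a := t)
    (B := fun p f => ∃ a y, J a y ∧ y⁻¹ * p ∈ O ∧ A f.1 a) ?_ (cm1.2 hx)
  refine ⟨zpowers_le.2 (mE hz h.lx.z_mem), EP, inf_le_right,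
    fun y hy _ ⟨n, e⟩ => e ▸ ((cm1.1 hy).zpow_right n).eq, mE j.tt (h.R_mem h.rt), fun e => ?_,
    tt ▸ one_mem _, fun p hp _ ⟨b, m', e'⟩ => ?_, cE,
    j.isPGroup_im h.lx.isPGroup.to_inf_left, fun x hx m => ?_, ?_, fun p hp => ?_,
    fun f => ?_, fun ⟨_, _, a, m, b⟩ ⟨_, _, a', m', b'⟩ => ⟨_, _, j.mul a a', j.ga_mul a' m m', h.A_mul b b'⟩,
    fun ⟨_, _, a, m, b⟩ => ⟨_, _, j.inv a, j.ga_inv a m, h.A_inv b⟩,
    fun {p f} _ ⟨a, y, ha, m, hk⟩ => ⟨fun e q hq => ?_,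
      fun e => Subtype.ext (ker ha hk f.2 fun q hq => ?_)⟩, ?_, fun M ZM MP nM ⟨p, hp, hM, p2⟩ => ?_, ?_, ?_⟩
  · exact (mZ.1 e).elim (j.ga_ne h) fun e => h.z_v4 (.inr (.inr (j.bw j.tt (e ▸ hz))))
  · obtain ⟨a, y, e, m, az⟩ := dP hp
    rw [j.ga_cj e' m]
    exact mE (j.cj e e') (h.lx.norm a az b m'.1)
  · obtain ⟨a, e, az⟩ := tP (k := 1) m (by rw [pow_one, pow_two, conj_mul, tt]; group)
    exact ⟨j.fix h c hz (cm1.1 hx) e az, hx⟩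
  · rintro b ⟨b', m', e'⟩ x hx m
    obtain ⟨n, hn⟩ := j.isPGroup_im (h.lx.isPGroup.to_inf_left (K := centralizer {s})) ⟨b, b', m', e'⟩
    obtain ⟨a, e, az⟩ := tP (k := n) m (by
      rw [conj_pow, show b ^ 2 ^ n = 1 from congrArg Subtype.val hn]; group)
    obtain ⟨k, hk, kv⟩ := h.exists_k h.rs h.hv az (j.dom e)
    have h1 : a * a ∈ Q := by
      have h2 := j.mul e e
      rw [conj_mul] at h2
      rcases h.lx.sq b' m'.1 with f | f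
      · rw [j.fw (j.mul e' e') (f ▸ j.one), mul_one, mul_inv_cancel] at h2
        rcases j.bw j.one h2 with g | g <;> rw [g]
        exacts [one_mem _, mul_mem (one_mem _) (h.R_mem h.rs)]
      · rw [j.fw (j.mul e' e') (f ▸ hz), (cm1.1 hx).eq, mul_inv_cancel_right] at h2
        rcases j.bw hz h2 with g | g <;> rw [g]
        exacts [h.lx.z_mem, mul_mem h.lx.z_mem (h.R_mem h.rs)]
    obtain ⟨r, r1, r2, r3⟩ := exists_pt_fix (h.sq_k hk h1 h.hv kv) h.hv kv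
    obtain ⟨ρ, hρ⟩ := h.ex_x r
    obtain ⟨g, p, g1, g2, g3⟩ := j.ga_pt' h hρ r1 r2
    exact ⟨p, mP g2 g1, cm e g3 (h.lam hk hρ (La.cong_of_eq r3)) (h.R_mem hρ)⟩
  · obtain ⟨a, y, e, m, az⟩ := dP hp
    obtain ⟨k, hk, kv⟩ := h.exists_k h.rs h.hv az (j.dom e)
    exact ⟨⟨k, kv⟩, a, y, e, m, hk⟩
  · obtain ⟨a, a1, a2⟩ := h.lift1 h.rs h.hv f.2
    obtain ⟨p, hp⟩ := j.ex a a2
    exact ⟨p, mP hp (h.A_comm a1), a, p, hp, by simp, a1⟩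
  · obtain ⟨b, -, e'⟩ := id hq
    rw [j.ga_cj e' m]
    exact cE y (mE ha ((h.A_ker hk).2 (e ▸ one_mem _))) q hq
  · obtain ⟨b, -, e'⟩ := id hq
    rw [← j.ga_cj e' m]
    exact e q hq
  · obtain ⟨g, rfl⟩ := exists_smul_U h.hv
    let C : Golay.Code := ⟨_, Golay.setOf_mem_of_isCw (n := 21116) (by decide +kernel)⟩
    refine ⟨⟨g * sgn C * g⁻¹, (Lb.tr ..).trans (congrArg _ (Subtype.ext ((Lb.coe_sgn rfl _).trans
      (by decide +kernel))))⟩, fun e => ?_, Subtype.ext ?_⟩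
    · have := StdCo.sgn_inj ((conj_eq_one_iff.1 (congrArg Subtype.val e)).trans StdCo.sgn_c0.symm)
      exact absurd (congrArg (fun c : Golay.Code => c.1.card) this) (by decide +kernel)
    · change _ * _ = (1 : Co0)
      rw [conj_mul, Sgn_sq (sgn_mem C), mul_one, mul_inv_cancel]
  · have zN : z ∈ j.pre M := ⟨ζ, ZM (mem_zpowers ζ), hz⟩
    by_cases e : ∀ y ∈ ov h.toMT (j.pre M), Cong y 0 ∨ Cong y v
    · refine absurd ?_ hM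
      obtain ⟨a, ha, az⟩ := tP (k := 2) (MP hp) (by
        rw [show p ^ 2 ^ 2 = p * p * (p * p) by simp only [← pow_two, ← pow_mul]]
        rcases mZ.1 p2 with f | f <;> rw [f]
        exacts [mul_one 1, ζζ])
      obtain ⟨k, hk, kv⟩ := h.exists_k h.rs h.hv az (j.dom ha)
      have k1 : k = 1 := ker ha hk kv fun q ⟨b, m', hb⟩ => by
        obtain ⟨y, hy⟩ := h.ex_v b m'.1
        have h1 := j.mul (j.cj ha hb) (j.inv hb)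
        refine mZ.2 ((j.ga_zv h hz (h.R_cm hk hy) h1).2 (e _ ⟨_, ⟨_, ?_, h1⟩, h.R_cm hk hy⟩))
        simpa [mul_assoc] using mul_mem hp (nM q (EP ⟨b, m', hb⟩) _ (inv_mem hp))
      obtain ⟨y, hy⟩ := h.ex_v a ((h.A_ker hk).2 (k1 ▸ one_mem _))
      exact mZ.2 ((j.ga_zv h hz hy ha).2 (e y ⟨a, ⟨p, hp, ha⟩, hy⟩))
    push Not at e
    obtain ⟨y0, y1, y2, y3⟩ := e
    rintro q ⟨b, m, hb⟩
    obtain ⟨y, hy⟩ := h.ex_v b m.1
    obtain ⟨q', a1, a2⟩ := ((mem_ov h.toMT hy).1 (irr_perp h.hv (S := ov h.toMT (j.pre M))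
      (fun y => ⟨1, one_mem _, h.R_of_cong h.R_zero ⟨-y, by simp⟩⟩) ⟨s, ⟨1, one_mem _, j.os⟩, h.rs⟩
      (fun g gv y ⟨a, ⟨p, hp, ha⟩, hy⟩ => by
        obtain ⟨d, d1, d2⟩ := h.lift1 h.rs h.hv gv
        obtain ⟨δ, hδ⟩ := j.ex d d2
        exact ⟨_, ⟨_, nM δ (mP hδ (h.A_comm d1)) p hp, j.cj hδ ha⟩, h.R_conj d1 hy⟩) y1 y2 y3
      ((h.comm_iff h.rs hy).1 (cm1.1 m.2).symm))).elim id (mul_mem_cancel_right zN).1
    exact j.fw a2 hb ▸ a1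
  · obtain ⟨l, l1, l2, l3⟩ := exists_odd_rel h.hv
    suffices ∃ L : List G, L.length = l.length ∧ (∃ a, R l.sum a ∧ J a L.prod) ∧
        ∀ x ∈ L, ∃ p ∈ P, x = p * t * p⁻¹ by
      obtain ⟨L, a1, ⟨a, a2, a3⟩, a4⟩ := this
      exact ⟨L, a1 ▸ l1, mZ.2 ((j.ga_zv h hz a2 a3).2 (.inl l3)), a4⟩
    clear l1 l3
    induction l with
    | nil => exact ⟨[], rfl, ⟨1, h.R_zero, j.one⟩, by simp⟩
    | cons r l ih =>
      rw [List.forall_mem_cons] at l2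
      obtain ⟨L, a1, ⟨a, a2, a3⟩, a4⟩ := ih l2.2
      obtain ⟨ρ, hρ⟩ := h.ex_x r
      obtain ⟨g, p, g1, g2, g3⟩ := j.ga_pt' h hρ l2.1.1 l2.1.2
      exact ⟨_ :: L, congrArg (· + 1) a1, ⟨_, h.R_mul hρ a2, j.mul g3 a3⟩,
        List.forall_mem_cons.2 ⟨⟨p, mP g2 g1, rfl⟩, a4⟩⟩
  · obtain ⟨n, n1, n2⟩ := exists_ns_ort v
    obtain ⟨a, β, ha, hβ⟩ := lf n n1
    have h1 : β * β = ζ := j.fw (j.mul hβ hβ) ((h.sq_z ha n2).symm ▸ hz)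
    have h2 : ∀ {y}, y * y = 1 → y ≠ β := fun e f => ζ1 (by rw [← h1, ← f, e])
    refine ⟨β, mE hβ (h.R_mem ha), fun e => (mZ.1 e).elim (h2 (mul_one 1)).symm (h2 ζζ).symm,
      h1 ▸ mem_zpowers ζ, fun x hx e => ?_⟩
    have h3 : x * t * x⁻¹ * (x * t * x⁻¹) = 1 := by rw [conj_mul, tt]; group
    rcases mZ.1 e with e | e
    · exact h2 h3 (mul_inv_eq_one.1 e)
    · refine h2 (y := ζ * (x * t * x⁻¹)) ?_ (by rw [mul_inv_eq_iff_eq_mul.1 e, ← mul_assoc, ζζ, one_mul])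
      rw [(((cm1.1 hx).mul_left (j.comm j.tt hz (h.cz h.rt))).mul_left
        (cm1.1 hx).inv_left).mul_mul_mul_comm, ζζ, h3, mul_one]

end Eo

end CL.BF
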