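import Cfsg.Agent.SPOR.BF.Def

/-!
Basic facts on `St`, `NR`, `S1`.
-/

set_option autoImplicit false

namespace CL.BF

open Cfsg CL.BE CL.BE.Th Subgroup

variable {X G : Type*} [Group X] [Group G] {s τ : X} {C : X → Prop} {L K H : Subgroup G}
  {J : X → G → Prop}

/-- `2`-elements -/
def P2 (x : G) : Prop := ∃ k, x ^ 2 ^ k = 1

theorem P2.of_sq {x : G} (e : x * x = 1) : P2 x := ⟨1, by rwa [pow_one, pow_two]⟩

theorem P2.one : P2 (1 : G) := .of_sq (mul_one 1)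

theorem P2.cj {x : G} (e : P2 x) (g : G) : P2 (g * x * g⁻¹) :=
  e.imp fun k e => by rw [conj_pow, e]; simp

theorem P2.pow {x : G} (e : P2 x) (n : ℕ) : P2 (x ^ n) :=
  e.imp fun k e => by rw [← pow_mul, mul_comm, pow_mul, e, one_pow]

theorem P2.sq {x : G} (e : P2 x) : P2 (x * x) := pow_two x ▸ e.pow 2

theorem P2.of_mem {T : Subgroup G} (h : IsPGroup 2 T) {x} (m : x ∈ T) : P2 x :=
  (h ⟨x, m⟩).imp fun _ e => congrArg Subtype.val e

theorem card_map_mul {A Y Z : Type*} [Group A] [Group Y] (W : Subgroup A) (f : A →* Y) (S : Set Z)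
    {i : Z → A} (hi : Function.Injective i) (h : ∀ w, (w ∈ W ∧ f w = 1) ↔ w ∈ i '' S) :
    Nat.card (W.map f) * S.ncard = Nat.card W := by
  rw [← (f.comp W.subtype).ker.card_mul_index, index_ker, mul_comm, MonoidHom.range_comp, range_subtype,
    ← Set.ncard_image_of_injective S hi, ← card_map_of_injective W.subtype_injective]
  refine congrArg (· * _) (congrArg Set.ncard (Set.ext fun w => (h w).symm.trans ?_))
  exact ⟨fun e => ⟨⟨w, e.1⟩, e.2, rfl⟩, fun ⟨x, a, b⟩ => b ▸ ⟨x.2, a⟩⟩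

theorem goursat {A B : Type*} [Group A] [Group B] (W : Subgroup (A × B)) :
    Nat.card (W.map (MonoidHom.fst A B)) * {b | (1, b) ∈ W}.ncard =
      Nat.card (W.map (MonoidHom.snd A B)) * {a | (a, 1) ∈ W}.ncard := by
  rw [card_map_mul W _ _ (Prod.mk_right_injective 1) fun w => ⟨fun e => ⟨w.2, by
    rw [Set.mem_ofPred_eq, ← show w.1 = 1 from e.2]; exact e.1, Prod.ext e.2.symm rfl⟩,
      fun ⟨b, a, e⟩ => e ▸ ⟨a, rfl⟩⟩, card_map_mul W _ _ (Prod.mk_left_injective 1) fun w =>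
    ⟨fun e => ⟨w.1, by rw [Set.mem_ofPred_eq, ← show w.2 = 1 from e.2]; exact e.1,
      Prod.ext rfl e.2.symm⟩, fun ⟨b, a, e⟩ => e ▸ ⟨a, rfl⟩⟩]

namespace S1

variable (m : S1 s τ C)
include m

theorem sL : s ∈ LL s τ := mem_LL.2 ⟨.refl s, m.cts.symm⟩

theorem tL : τ ∈ LL s τ := mem_LL.2 ⟨m.cts, .refl τ⟩

theorem vL {c} (h : V4 s τ c) : c ∈ LL s τ := by
  rcases h with rfl | rfl | rfl | rfl
  exacts [one_mem _, m.sL, m.tL, mul_mem m.tL m.sL]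

theorem ts1 : τ * s ≠ 1 := fun e => m.ts (mul_right_cancel (e.trans m.ss.symm))

theorem r7 {a b} (ha : a ∈ NV s τ) (hb : b ∈ NV s τ) (h1 : V4 s τ (a * a)) (h2 : V4 s τ (b * b))
    (h3 : V4 s τ (a * b * (a * b))) : a ∈ LL s τ ∨ b ∈ LL s τ ∨ a * b ∈ LL s τ := by
  obtain ⟨ρ, h⟩ := m.rho
  have := (by decide : ∀ p q : Equiv.Perm (Fin 3), p * p = 1 → q * q = 1 → p * q * (p * q) = 1 →
    p = 1 ∨ q = 1 ∨ p * q = 1) (ρ ⟨a, ha⟩) (ρ ⟨b, hb⟩)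
  simp only [← map_mul, h] at this
  exact this (m.vL h1) (m.vL h2) (m.vL h3)

theorem r8 {a} (ha : a ∈ NV s τ) (h1 : V4 s τ (a * a * (a * a))) : a * a ∈ LL s τ := by
  obtain ⟨ρ, h⟩ := m.rho
  have := (by decide : ∀ p : Equiv.Perm (Fin 3), p * p * (p * p) = 1 → p * p = 1) (ρ ⟨a, ha⟩)
  simp only [← map_mul, h] at this
  exact this (m.vL h1)

theorem r9 : ∃ N : Subgroup X, (∀ a ∈ NV s τ, ∀ b ∈ NV s τ, a * b * a⁻¹ * b⁻¹ ∈ N) ∧
    ∀ a ∈ N, ∀ b ∈ N, a * b * a⁻¹ * b⁻¹ ∈ LL s τ := by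
  obtain ⟨ρ, h⟩ := m.rho
  refine ⟨((alternatingGroup (Fin 3)).comap ρ).map (NV s τ).subtype, fun a ha b hb =>
    ⟨⟨a, ha⟩ * ⟨b, hb⟩ * ⟨a, ha⟩⁻¹ * ⟨b, hb⟩⁻¹, ?_, rfl⟩, ?_⟩
  · rw [SetLike.mem_coe, mem_comap, map_mul, map_mul, map_mul, map_inv, map_inv]
    exact (by decide : ∀ p q : Equiv.Perm (Fin 3), (p * q * p⁻¹ * q⁻¹).sign = 1) _ _
  · rintro _ ⟨a, ha, rfl⟩ _ ⟨b, hb, rfl⟩
    have := (by decide : ∀ p q : Equiv.Perm (Fin 3), p.sign = 1 → q.sign = 1 →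
      p * q * p⁻¹ * q⁻¹ = 1) (ρ a) (ρ b) ha hb
    simp only [← map_mul, ← map_inv, h] at this
    exact this

end S1

namespace NR

theorem mul {a b x y} (e : NR s τ H J a x) (f : NR s τ H J b y) : NR s τ H J (a * b) (x * y) :=
  ⟨mul_mem e.1 f.1, mul_mem e.2.1 f.2.1, fun c w => by
    rw [f.2.2, e.2.2]; simp only [mul_inv_rev, mul_assoc]⟩

theorem inv {a x} (e : NR s τ H J a x) : NR s τ H J a⁻¹ x⁻¹ :=
  ⟨inv_mem e.1, inv_mem e.2.1, fun c w => by rw [e.2.2 (a⁻¹ * c * a⁻¹⁻¹)]; simp [mul_assoc]⟩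

theorem one : NR s τ H J 1 1 := ⟨one_mem _, one_mem _, by simp⟩

theorem pow {a x} (e : NR s τ H J a x) (n : ℕ) : NR s τ H J (a ^ n) (x ^ n) := by
  induction n with
  | zero => simpa using one
  | succ n ih => simpa only [pow_succ] using ih.mul e

theorem cm {a b x y} (e : NR s τ H J a x) (f : NR s τ H J b y) :
    NR s τ H J (a * b * a⁻¹ * b⁻¹) (x * y * x⁻¹ * y⁻¹) := ((e.mul f).mul e.inv).mul f.inv

theorem cj {n h a x} (e : NR s τ H J n h) (f : J a x) : J (n * a * n⁻¹) (h * x * h⁻¹) := (e.2.2 a x).1 f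

end NR

namespace St

variable (j : St s τ L K H J)
include j

theorem one : J 1 1 := by
  obtain ⟨x, e⟩ := j.ex 1 (one_mem _)
  simpa using j.mul e (j.inv e)

theorem pow {a x} (e : J a x) (n : ℕ) : J (a ^ n) (x ^ n) := by
  induction n with
  | zero => simpa using j.one
  | succ n ih => simpa only [pow_succ] using j.mul ih e

theorem mL {a x} (e : J a x) : x ∈ L := (j.ran x).2 ⟨a, e⟩

theorem nr {a x} (e : J a x) : NR s τ H J a x :=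
  ⟨LL_le (j.dom e), j.LH (j.mL e), fun _ _ => ⟨fun f => j.mul (j.mul e f) (j.inv e), fun f => by
    simpa [mul_assoc] using j.mul (j.mul (j.inv e) f) e⟩⟩

theorem nrK {k} (h : k ∈ K) : NR s τ H J 1 k :=
  ⟨one_mem _, j.KH h, fun a x => by
    rw [one_mul, inv_one, mul_one]
    exact ⟨fun e => by rwa [← (j.cm x (j.mL e) k h).eq, mul_inv_cancel_right], fun e => by
      have := (j.cm _ (j.mL e) k h).eq
      rw [inv_mul_cancel_right, mul_right_inj] at this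
      rwa [← this] at e⟩⟩

theorem div {a x y} (e : J a x) (f : J a y) : J 1 (x⁻¹ * y) := by simpa using j.mul (j.inv e) f

theorem div' {a b x} (e : J a x) (f : J b x) : J (a⁻¹ * b) 1 := by simpa using j.mul (j.inv e) f

theorem z3 {c} (e : J 1 c) : c ∈ K := (j.ker e).2 (.inl rfl)

theorem uniq {a x y} (e : J a x) (f : J a y) (hx : P2 x) (hy : P2 y) : x = y := by
  obtain ⟨i, hx⟩ := hx
  obtain ⟨k, hy⟩ := hy
  have h := j.div e f
  have c := (j.cm x (j.mL e) _ (j.z3 h)).mul_pow (2 ^ i * 2 ^ k)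
  rw [mul_inv_cancel_left, pow_mul x, hx, one_pow, one_mul, mul_comm, pow_mul y, hy, one_pow,
    ← pow_add] at c
  exact inv_mul_eq_one.1 (orderOf_eq_one_iff.1 (Nat.eq_one_of_dvd_coprimes
    ((show Nat.Coprime 2 3 by norm_num).pow_left _) (orderOf_dvd_of_pow_eq_one c.symm)
      (orderOf_dvd_of_pow_eq_one (j.k3 h))))

theorem eq1 {x} (e : J 1 x) (hx : P2 x) : x = 1 := j.uniq e j.one hx .one

theorem lift {a x} (e : J a x) (ha : P2 a) : ∃ i, J a (x ^ i) ∧ P2 (x ^ i) := by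
  obtain ⟨k, ha⟩ := ha
  obtain ⟨i, hi⟩ := exists_pow_eq_self_of_coprime (x := a) (n := 3) (Nat.Coprime.coprime_dvd_right
    (orderOf_dvd_of_pow_eq_one ha) ((show Nat.Coprime 3 2 by norm_num).pow_right k))
  refine ⟨3 * i, by simpa only [← pow_mul, pow_mul a, hi] using j.pow e (3 * i), k, ?_⟩
  rw [← pow_mul, mul_comm, pow_mul, pow_mul, j.k3 (ha ▸ j.pow e _), one_pow]

theorem ex2 {a} (h : a ∈ LL s τ) (ha : P2 a) : ∃ x, J a x ∧ P2 x :=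
  let ⟨_, e⟩ := j.ex a h
  let ⟨_, f⟩ := j.lift e ha
  ⟨_, f⟩

theorem exi {a} (h : a ∈ LL s τ) (ha : a * a = 1) : ∃ x, J a x ∧ x * x = 1 :=
  let ⟨x, e, f⟩ := j.ex2 h (.of_sq ha)
  ⟨x, e, j.eq1 (ha ▸ j.mul e e) f.sq⟩

theorem two [Finite G] {S : Subgroup X} (hS : IsPGroup 2 S) :
    ∃ T : Subgroup G, ∀ x, x ∈ T ↔ P2 x ∧ ∃ a ∈ S, J a x := by
  have : Fact (Nat.Prime 2) := ⟨Nat.prime_two⟩
  let U : Subgroup G :=
    { carrier := {x | ∃ a ∈ S, J a x}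
      one_mem' := ⟨1, one_mem _, j.one⟩
      mul_mem' := fun ⟨_, a, e⟩ ⟨_, b, f⟩ => ⟨_, mul_mem a b, j.mul e f⟩
      inv_mem' := fun ⟨_, a, e⟩ => ⟨_, inv_mem a, j.inv e⟩ }
  have : Group.IsNilpotent U := Group.of_quotient_center_nilpotent (IsPGroup.isNilpotent (p := 2) fun x => by
    obtain ⟨⟨x, a, ha, e⟩, rfl⟩ := QuotientGroup.mk_surjective x
    obtain ⟨k, hk⟩ := P2.of_mem hS ha
    refine ⟨k, ?_⟩
    rw [← QuotientGroup.mk_pow, QuotientGroup.eq_one_iff, mem_center_iff]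
    exact fun ⟨y, _, _, f⟩ => Subtype.ext (j.cm y (j.mL f) _ (j.z3 (hk ▸ j.pow e _))))
  obtain ⟨P⟩ : Nonempty (Sylow 2 U) := inferInstance
  refine ⟨P.1.map U.subtype, fun x => ⟨?_, fun ⟨⟨k, e⟩, m⟩ => ⟨⟨x, m⟩, ?_, rfl⟩⟩⟩
  · rintro ⟨x, m, rfl⟩
    exact ⟨(P2.of_mem P.2 m).imp fun _ e => congrArg Subtype.val e, x.2⟩
  · obtain ⟨P', e⟩ := (IsPGroup.of_card (n := _) (Nat.card_zpowers _ |>.trans ((Nat.dvd_prime_pow
      Nat.prime_two).1 (orderOf_dvd_of_pow_eq_one (x := (⟨x, m⟩ : U)) (Subtype.ext e))).choose_spec.2)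
      ).exists_le_sylow
    have := Sylow.unique_of_normal P inferInstance
    exact Subsingleton.elim P' P ▸ e (mem_zpowers _)

theorem fixs (m : S1 s τ C) (os : J s 1) {n h} (e : NR s τ H J n h) : Commute n s :=
  mul_inv_eq_iff_eq_mul.1 ((j.k1 (by simpa using e.cj os)).resolve_left
    fun e => m.s1 (conj_eq_one_iff.1 e))

theorem cH {g y x} (y2 : y * y = 1) (y1 : y ≠ 1) (yK : g⁻¹ * y * g ∈ K) (c : Commute x y) :
    g⁻¹ * x * g ∈ H :=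
  j.ti _ _ (by simpa [mul_assoc] using congrArg (g⁻¹ * · * g) y2)
    (fun e => y1 (by simpa [mul_assoc] using congrArg (g * · * g⁻¹) e)) yK (by
      rwa [show g⁻¹ * x * g * (g⁻¹ * y * g) * (g⁻¹ * x * g)⁻¹ = g⁻¹ * (x * y * x⁻¹) * g by group, c.eq,
        mul_inv_cancel_right])

theorem triv {g y} (gH : g ∉ H) (y2 : y * y = 1) (yK : g⁻¹ * y * g ∈ K) (h : y ∈ K) : y = 1 :=
  by_contra fun y1 => gH (inv_mem_iff.1 (j.ti _ y y2 y1 h (by rwa [inv_inv])))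

theorem ext (m : S1 s τ C) : ∃ t, J τ t ∧ t * t = 1 ∧ t ≠ 1 ∧ t ∈ K ∧ t ∈ L :=
  let ⟨t, e, f⟩ := j.exi m.tL m.tt
  ⟨t, e, f, fun h => (j.k1 (h ▸ e)).elim m.t1 m.ts, (j.ker e).2 (.inr (.inr (.inl rfl))), j.mL e⟩

end St

end CL.BF
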