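import Cfsg.Agent.SPOR.BF.K0

/-!
An involution of a conjugate of `K` acting on `L` as a root involution.
-/

set_option autoImplicit false

namespace CL.BF

open Cfsg CL.BE CL.BE.Th Subgroup

variable {X G : Type*} [Group X] [Group G] {s τ : X} {C : X → Prop} {L K H : Subgroup G}
  {J : X → G → Prop}

namespace St

variable (m : S1 s τ C) (j : St s τ L K H J)
include j

theorem comm_of {n y p x} (r : NR s τ H J n y) (nL : n ∈ LL s τ) (y2 : y * y = 1) (e : J p x)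
    (c : Commute p n) : Commute x y := by
  obtain ⟨l, hl⟩ := j.ex n nL
  have k := (j.nker ((j.nr hl).inv.mul r)).2 (.inl (inv_mul_cancel n))
  have h := j.div e (by simpa [← c.eq] using r.cj e)
  have c1 : Commute y (x⁻¹ * (y * x * y⁻¹)) := by
    simpa using (j.cm l (j.mL hl) _ (j.z3 h)).mul_left (j.cm _ (j.mL h) _ k).symm
  have h3 := j.k3 h
  obtain ⟨w, hw⟩ : ∃ w, w = x⁻¹ * (y * x * y⁻¹) := ⟨_, rfl⟩
  rw [← hw] at c1 h3
  have e1 : y * x * y⁻¹ = x * w := by rw [hw]; group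
  have e2 : x * w * w = x := by
    calc _ = y * x * y⁻¹ * (y * w * y⁻¹) := by rw [e1, c1.eq, mul_inv_cancel_right]
      _ = y * y * x * (y * y)⁻¹ := by rw [conj_mul, ← e1]; group
      _ = x := by rw [y2]; simp
  rw [mul_assoc, mul_eq_left] at e2
  rw [pow_succ, pow_two, e2, one_mul] at h3
  rw [h3, mul_one] at e1
  exact (mul_inv_eq_iff_eq_mul.1 e1).symm

theorem so [Finite G] {t g w} (tt : J τ t) (t2 : t * t = 1) (t1 : t ≠ 1) (os : J s 1) (gH : g ∉ H)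
    (wL : w ∈ L) (w2 : w * w = 1) (w1 : w ≠ 1) (wK : g⁻¹ * w * g ∈ K)
    (dec : ∀ k ∈ K, g⁻¹ * k * g ∈ K ∨ g⁻¹ * (k * t) * g ∈ K) : ∃ O, So s τ L K H O t g J := by
  have tK := (j.ker tt).2 (.inr (.inr (.inl rfl)))
  let O := K ⊓ K.comap (MulAut.conj g⁻¹).toMonoidHom
  have mO : ∀ {k}, k ∈ O ↔ k ∈ K ∧ g⁻¹ * k * g ∈ K := and_congr_right fun _ => by simp
  have odd : Odd (Nat.card O) := Nat.not_even_iff_odd.1 fun e => by
    obtain ⟨i, a, b⟩ := SylowAux.exists_mem_orderOf_eq_two_of_even e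
    exact CL.Inv.ne_one_of_orderOf_two b
      (j.triv gH (CL.Inv.mul_self_of_orderOf_two b) (mO.1 a).2 (mO.1 a).1)
  have dec' : ∀ k ∈ K, k ∈ O ∨ k * t ∈ O := fun k hk =>
    (dec k hk).imp (fun e => mO.2 ⟨hk, e⟩) fun e => mO.2 ⟨mul_mem hk tK, e⟩
  have mO' : ∀ k, k ∈ O ↔ k ∈ K ∧ Odd (orderOf k) := fun k =>
    ⟨fun e => ⟨e.1, odd.of_dvd_nat (orderOf_dvd_natCard _ e)⟩, fun ⟨a, i, b⟩ =>
      (dec' k a).resolve_right fun e => t1 (pow_eq_of_odd odd (k := 1) (by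
        have := pow_mem e (orderOf k)
        rwa [(j.cm t (j.mL tt) k a).symm.mul_pow, pow_orderOf_eq_one, one_mul, b, pow_succ, pow_mul,
          pow_two, t2, one_pow, one_mul] at this) (by rwa [pow_one, pow_two]))⟩
  have i2 : g⁻¹ * w * g * (g⁻¹ * w * g) = 1 := by simpa [mul_assoc] using congrArg (g⁻¹ * · * g) w2
  have e : g⁻¹ * w * g * t = 1 := by
    refine (dec' _ wK).elim (fun e => absurd ?_ w1) fun e => pow_eq_of_odd odd e (k := 1) ?_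
    · simpa [mul_assoc] using congrArg (g * · * g⁻¹)
        (pow_eq_of_odd odd e (k := 1) (by rwa [pow_one, pow_two]))
    · rw [pow_one, pow_two, (j.cm t (j.mL tt) _ wK).mul_mul_mul_comm, i2, t2, mul_one]
  refine ⟨O, j, tt, t2, os, gH, ?_, odd, mO', dec', inv_mem_iff.1 (mem_normalizer_fintype fun k hk =>
    (mO' _).2 ⟨by simpa using (mO.1 hk).2, by rw [CL.Inv.orderOf_conj']; exact ((mO' k).1 hk).2⟩)⟩
  rw [← inv_eq_of_mul_eq_one_right e, inv_eq_of_mul_eq_one_right i2]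
  simpa [mul_assoc] using wL

include m

theorem cls [Finite X] [Finite G] {g y n} (gH : g ∉ H) (y2 : y * y = 1) (y1 : y ≠ 1)
    (yK : g⁻¹ * y * g ∈ K) (r : NR s τ H J n y) (c : C n) : ∃ O t, So s τ L K H O t g J := by
  obtain ⟨t, tt, t2, t1, tK, tL⟩ := j.ext m
  obtain ⟨nL, P, PL, τP, Pn, perf, nrm, T, TP, pT, cT⟩ := m.cls1 n c
  have cp : ∀ (x : G) (i : ℕ), (g⁻¹ * x * g) ^ i = g⁻¹ * x ^ i * g := fun x i => by
    simpa only [inv_inv] using conj_pow (i := i) (a := g⁻¹) (b := x)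
  have hH : ∀ p ∈ P, ∀ x, J p x → g⁻¹ * x * g ∈ H := fun p hp x e =>
    j.cH y2 y1 yK (j.comm_of r nL y2 e (Pn p hp))
  let F : Subgroup X → Subgroup X := fun U =>
    { carrier := {p | ∃ x, ∃ b ∈ U, J p x ∧ NR s τ H J b (g⁻¹ * x * g)}
      one_mem' := ⟨1, 1, one_mem _, j.one, by simpa using NR.one⟩
      mul_mem' := fun ⟨_, _, a, e, f⟩ ⟨_, _, a', e', f'⟩ =>
        ⟨_, _, mul_mem a a', j.mul e e', by simpa [mul_assoc] using f.mul f'⟩
      inv_mem' := fun ⟨_, _, a, e, f⟩ => ⟨_, _, inv_mem a, j.inv e, by simpa [mul_assoc] using f.inv⟩ }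
  have step : ∀ U U', (∀ a ∈ U, ∀ b ∈ U, a * b * a⁻¹ * b⁻¹ ∈ U') → P ≤ F U → P ≤ F U' :=
    fun U U' h le => perf _ fun p hp q hq =>
      let ⟨_, _, a, e, f⟩ := le hp
      let ⟨_, _, a', e', f'⟩ := le hq
      ⟨_, _, h _ a _ a', j.mul (j.mul (j.mul e e') (j.inv e)) (j.inv e'), by
        simpa [mul_assoc] using f.cm f'⟩
  obtain ⟨N, n1, n2⟩ := m.r9
  have inn : P ≤ F (LL s τ) := step _ _ n2 (step _ _ n1 fun p hp => by
    obtain ⟨x, e⟩ := j.ex p (PL hp)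
    obtain ⟨b, f⟩ := j.nex _ (hH p hp x e)
    exact ⟨x, b, f.1, e, f⟩)
  let N0 : Subgroup X :=
    { carrier := {a | a ∈ P ∧ ∃ x, J a x ∧ g⁻¹ * x * g ∈ K}
      one_mem' := ⟨one_mem _, 1, j.one, by simp⟩
      mul_mem' := fun ⟨a, _, e, f⟩ ⟨a', _, e', f'⟩ =>
        ⟨mul_mem a a', _, j.mul e e', by simpa [mul_assoc] using mul_mem f f'⟩
      inv_mem' := fun ⟨a, _, e, f⟩ => ⟨inv_mem a, _, j.inv e, by simpa [mul_assoc] using inv_mem f⟩ }
  have h0 := (nrm N0 (fun _ e => e.1) fun p hp a ⟨ha, x, e, f⟩ => by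
    obtain ⟨w, hw⟩ := j.ex p (PL hp)
    exact ⟨mul_mem (mul_mem hp ha) (inv_mem hp), _, (j.nr hw).cj e, by
      simpa [mul_assoc] using j.nK _ (hH p hp w hw) _ f⟩).resolve_left fun ⟨_, x, e, f⟩ => by
    obtain ⟨i, a, b⟩ := j.lift e (.of_sq m.tt)
    refine t1 (j.triv gH t2 ?_ tK)
    rw [j.uniq tt a (.of_sq t2) b]
    exact cp x i ▸ pow_mem f i
  obtain ⟨T', hT⟩ := j.two pT
  let W : Subgroup (X × X) :=
    { carrier := {w | w.1 ∈ T ∧ w.2 ∈ LL s τ ∧ ∃ x ∈ T', J w.1 x ∧ NR s τ H J w.2 (g⁻¹ * x * g)}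
      one_mem' := ⟨one_mem _, one_mem _, 1, one_mem _, j.one, by simpa using NR.one⟩
      mul_mem' := fun ⟨a, b, _, c, e, f⟩ ⟨a', b', _, c', e', f'⟩ => ⟨mul_mem a a', mul_mem b b', _,
        mul_mem c c', j.mul e e', by simpa [mul_assoc] using f.mul f'⟩
      inv_mem' := fun ⟨a, b, _, c, e, f⟩ => ⟨inv_mem a, inv_mem b, _, inv_mem c, j.inv e, by
        simpa [mul_assoc] using f.inv⟩ }
  have gs := goursat W
  have e1 : W.map (MonoidHom.fst X X) = T := le_antisymm (fun _ ⟨_, a, b⟩ => b ▸ a.1) fun a ha => by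
    obtain ⟨x, b, hb, e, f⟩ := inn (TP ha)
    obtain ⟨i, e', p⟩ := j.lift e (.of_mem pT ha)
    exact ⟨(a, b ^ i), ⟨ha, pow_mem hb i, _, (hT _).2 ⟨p, a, ha, e'⟩, e', cp x i ▸ f.pow i⟩, rfl⟩
  have e2 : 4 ≤ {b | (1, b) ∈ W}.ncard := by
    refine le_of_eq_of_le (Set.ncard_eq_four.2 ⟨1, s, τ, τ * s, m.s1.symm, m.t1.symm, m.ts1.symm,
      m.ts.symm, fun e => m.t1 (by simpa using e), fun e => m.s1 (by simpa using e), rfl⟩).symm
      (Set.ncard_le_ncard fun b (hb : V4 s τ b) => ⟨one_mem _, m.vL hb, 1, one_mem _, j.one, ?_⟩)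
    obtain ⟨x, e⟩ := j.ex b (m.vL hb)
    simpa using (j.nr e).mul (j.nrK (inv_mem ((j.ker e).2 hb)))
  set S := W.map (MonoidHom.snd X X)
  have mS : ∀ b ∈ S, b ∈ LL s τ ∧ ∃ x ∈ L, P2 x ∧ NR s τ H J b (g⁻¹ * x * g) := by
    rintro _ ⟨_, ⟨-, a, x, b, c, d⟩, rfl⟩
    exact ⟨a, x, j.mL c, ((hT x).1 b).1, d⟩
  obtain ⟨b1, b2⟩ := m.big S (fun b hb => (mS b hb).1) fun ⟨b, hb⟩ => by
    obtain ⟨a, x, -, ⟨k, e⟩, f⟩ := mS b hb
    have := (j.nker (f.pow (2 ^ k))).1 (by rw [cp, e]; simp)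
    refine ⟨k + 1, Subtype.ext ?_⟩
    change b ^ 2 ^ (k + 1) = 1
    rw [pow_succ, pow_mul, pow_two]
    exact m.sq _ (pow_mem a _) (by
      rcases this with e | e | e | e <;> rw [e]
      exacts [.inl (mul_one 1), .inl m.ss, .inl m.tt, .inl (by
        rw [m.cts.symm.mul_mul_mul_comm, m.ss, m.tt, mul_one])])
  set Z := {a | (a, 1) ∈ W}
  have mZ : ∀ a ∈ Z, a ∈ N0 ∧ ∃ x, J a x ∧ x * x = 1 ∧ g⁻¹ * x * g ∈ K := fun a ⟨h, _, x, b, e, f⟩ => by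
    have k := (j.nker f).2 (.inl rfl)
    have k0 : a ∈ N0 := ⟨TP h, x, e, k⟩
    exact ⟨k0, x, e, j.eq1 ((h0 a k0).1 ▸ j.mul e e) ((hT x).1 b).1.sq, k⟩
  have vZ : ∀ a ∈ Z, V4 s τ a → J a 1 := fun a ha v =>
    let ⟨_, x, e, f, k⟩ := mZ a ha
    j.triv gH f k ((j.ker e).2 v) ▸ e
  rw [e1, cT] at gs
  have e3 : 4 ≤ Z.ncard := by nlinarith
  have two : ∀ a b, ¬ Z ⊆ {a, b} := fun a b e => by
    have := (Set.ncard_le_ncard e).trans (Set.ncard_insert_le a {b})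
    rw [Set.ncard_singleton] at this
    omega
  obtain ⟨a, aZ, av⟩ : ∃ a ∈ Z, ¬ V4 s τ a := by
    by_contra! e
    exact two 1 s fun a ha => j.k1 (vZ a ha (e a ha))
  have cas : ∀ b ∈ Z, J b 1 ∨ J (a * b) 1 := fun b hb =>
    (((h0 a (mZ a aZ).1).2 b (mZ b hb).1).resolve_left av).imp (vZ b hb)
      (vZ _ (show (a * b, 1) ∈ W by simpa using W.mul_mem aZ hb))
  have a2 := (h0 a (mZ a aZ).1).1
  have inv : ∀ {b c}, a * b = c → b = a * c := fun e => by rw [← e, ← mul_assoc, a2, one_mul]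
  have os : J s 1 := by_contra fun e => two 1 a fun b hb => (cas b hb).imp
    (fun f => (j.k1 f).resolve_right fun h => e (h ▸ f))
    fun f => (inv ((j.k1 f).resolve_right fun h => e (h ▸ f))).trans (mul_one a)
  have e4 : Z.ncard ≤ 4 := (Set.ncard_le_ncard (show Z ⊆ {1, s, a * 1, a * s} from fun b hb =>
    or_assoc.1 ((cas b hb).imp j.k1 fun f => (j.k1 f).imp inv inv))).trans (by
      have h1 := Set.ncard_insert_le 1 {s, a * 1, a * s}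
      have h2 := Set.ncard_insert_le s {a * 1, a * s}
      have h3 := Set.ncard_insert_le (a * 1) {a * s}
      rw [Set.ncard_singleton] at h3
      omega)
  obtain ⟨-, w, e, w2, wK⟩ := mZ a aZ
  have w1 : w ≠ 1 := fun h => av ((j.ker e).1 (h ▸ one_mem _))
  have act : ∀ k ∈ K, ∃ n, NR s τ H J n (g⁻¹ * k * g) ∧ ∀ r ∈ S, V4 s τ (n * r * n⁻¹ * r⁻¹) :=
    fun k hk => by
      obtain ⟨n, f⟩ := j.nex _ (j.cH w2 w1 wK (j.cm w (j.mL e) k hk).symm)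
      refine ⟨n, f, fun b hb => ?_⟩
      obtain ⟨-, x, xL, -, f'⟩ := mS b hb
      refine (j.nker (f.cm f')).1 ?_
      rw [show g⁻¹ * k * g * (g⁻¹ * x * g) * (g⁻¹ * k * g)⁻¹ * (g⁻¹ * x * g)⁻¹ =
        g⁻¹ * (k * x * k⁻¹ * x⁻¹) * g by group, ← (j.cm x xL k hk).eq]
      simp
  obtain ⟨O, h⟩ := j.so tt t2 t1 os gH (j.mL e) w2 w1 wK fun k hk => by
    obtain ⟨n, f, f1⟩ := act k hk
    obtain ⟨n', f', f2⟩ := act t tK
    rcases b2 (by nlinarith) n f.1 n' f'.1 f1 f2 with v | v | v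
    exacts [.inl ((j.nker f).2 v), absurd (j.triv gH t2 ((j.nker f').2 v) tK) t1,
      .inr (by simpa [mul_assoc] using (j.nker (f.mul f')).2 v)]
  exact ⟨O, t, h⟩

end St

end CL.BF
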