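import Cfsg.Agent.SPOR.BF.Def
import Cfsg.Agent.SPOR.BF.MC
import Cfsg.Agent.SPOR.BE.Cls
import Cfsg.Agent.SPOR.BE.Lb

/-!
Elements of `N(V)` acting almost trivially on the centralizer of an involution in `Q ∩ C(V)`.
-/

set_option autoImplicit false

namespace CL.BF

open Cfsg CL.Leech CL.MT CL.MO CL.MU CL.LX CL.MSS CL.BE CL.BE.Th Spor Subgroup CL.BF.MC
open CL.MP (W0 cm1 ov mem_ov four_mem_cj)

variable {X G : Type*} [Group X] [Group G] {z : X} {Q : Subgroup X} {R : leechLattice → X → Prop}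
  {A : Co0 → X → Prop} {D : Set X} {s τ : X} {v u : leechLattice} {t : G} {J : X → G → Prop}

/-- the first half of `BE.Fm.cl` -/
theorem into [Finite X] (h : Fm z Q R A D s τ v u) {E : Type*} [Group E] (π : LL s τ →* E)
    (su : Function.Surjective π) (ker : ∀ x, π x = 1 ↔ V4 s τ x.1)
    (h3 : (ConjClasses.mk '' {g : E | orderOf g = 2}).ncard = 3) :
    ∀ y ∈ LL s τ, V4 s τ (y * y) → ∃ m ∈ LL s τ, m * y * m⁻¹ ∈ Q := by
  have V : ∀ {c}, V4 s τ c → c ∈ LL s τ ∧ c * c = 1 ∧ (c = 1 ∨ c ∈ D) ∧ ∀ x ∈ LL s τ, Commute x c := by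
    rintro c (e | e | e | e) <;> rw [e]
    · exact ⟨one_mem _, mul_one 1, .inl rfl, fun x _ => .one_right x⟩
    · exact ⟨h.s_PP.1, h.ss, .inr h.sD, fun x m => (mem_LL.1 m).1⟩
    · exact ⟨h.t_PP.1, h.tt, .inr h.tD, fun x m => (mem_LL.1 m).2⟩
    · exact ⟨mul_mem h.t_PP.1 h.s_PP.1, h.sq h.tsD, .inr h.tsD, fun x m =>
        (mem_LL.1 m).2.mul_right (mem_LL.1 m).1⟩
  have Vm : ∀ {a b}, V4 s τ a → V4 s τ b → V4 s τ (a * b) := fun a b =>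
    (ker (⟨_, (V a).1⟩ * ⟨_, (V b).1⟩)).1 (by rw [map_mul, (ker _).2 a, (ker _).2 b, mul_one])
  have Vs : V4 s τ s := .inr (.inl rfl)
  have Vts : V4 s τ (τ * s) := .inr (.inr (.inr rfl))
  let N := fun x => ∃ g, R g x ∧ sqNorm g.1 = 64
  have nD : ∀ {x}, N x → x ∉ D := fun ⟨_, a, b⟩ e => h.not_conj e (h.conj_of_64 a b)
  have nV : ∀ {x c}, V4 s τ c → N (x * c) → ¬ V4 s τ x := fun c n e =>
    (V (Vm e c)).2.2.1.elim (let ⟨_, a, b⟩ := n; (h.ne_of_norm a b.le (by omega)).1) (nD n)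
  have r2 : ∀ {a b x y}, R a x → R b y → R (a - b) (x * y) := fun a b =>
    h.R_of_cong (h.R_mul a b) (cong_sub _ _).symm
  have n2 : ∀ {a b x y}, R a x → R b y → Sht a → Sht b → dt a b = 0 → N (x * y) := fun a b c d e =>
    ⟨_, r2 a b, by rw [nm_sub c d, e]; rfl⟩
  have s2 : ∀ {a b}, Sht a → Sht b → dt a b = 16 → Sht (a - b) := fun c d e =>
    (nm_sub c d).trans (by rw [e]; rfl)
  have pp : ∀ {x y d}, R x y → dt x v = 16 * d → dt x u = 16 * d → y ∈ LL s τ := fun a b c =>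
    ((h.R_PP a).2 ⟨ort_symm ⟨_, b⟩, ort_symm ⟨_, c⟩⟩).1
  obtain ⟨⟨x₁, a1, a2, a3⟩, ⟨x₂, b1, b2, b3⟩, x₃, c1, c2⟩ := exists_reps h.hu h.hv h.huv
  obtain ⟨y₁, r₁⟩ := h.ex_x x₁
  obtain ⟨y₂, r₂⟩ := h.ex_x x₂
  obtain ⟨y₃, r₃⟩ := h.ex_x x₃
  have m₁ := pp (d := 1) r₁ a2 a3
  have m₂ := pp (d := 0) r₂ b2 b3
  have m₃ := ((h.R_PP r₃).2 c1).1
  have d₁ := h.of_R r₁ a1
  have d₂ := h.of_R r₂ b1
  have ds := h.of_R (r2 r₁ h.rs) (s2 a1 h.hv a2)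
  have n₁ : N (y₁ * (τ * s)) := mul_assoc y₁ τ s ▸ n2 (r2 r₁ h.rt) h.rs (s2 a1 h.hu a3) h.hv
    (by rw [La.sub_dt, a2, h.huv]; rfl)
  have n₂ : ∀ {c}, V4 s τ c → c = 1 ∨ N (y₂ * c) := by
    rintro c (e | e | e | e) <;> rw [e]
    exacts [.inl rfl, .inr (n2 r₂ h.rs b1 h.hv b2), .inr (n2 r₂ h.rt b1 h.hu b3), .inr (n2 r₂ h.rts b1
      (sht_sub h.hu h.hv h.huv) (by rw [dt_sub, b2, b3]; rfl))]
  have n₃ : ∀ {c}, V4 s τ c → N (y₃ * c) := by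
    have k : ∀ {w c}, w ∈ [0, v, u, u + v] → R w c → N (y₃ * c) := fun m r =>
      let ⟨g, a, b⟩ := c2 _ m; ⟨g, h.R_of_cong (h.R_mul r₃ r) b, a⟩
    rintro c (e | e | e | e) <;> rw [e]
    exacts [k (by simp) h.R_zero, k (by simp) h.rs, k (by simp) h.rt, k (by simp) (h.R_mul h.rt h.rs)]
  have q₃ : y₃ * y₃ = 1 := by
    obtain ⟨g, a, b⟩ := n₃ (.inl rfl)
    exact (h.sq_iff (mul_one y₃ ▸ a)).2 (b ▸ by norm_num)
  have t₂ : ∀ {c}, V4 s τ c → y₂ * c ∈ D → y₂ * c * s ∉ D := fun c a b => (n₂ c).elim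
    (fun e => (n₂ Vs).elim h.s_ne fun n => nD n (by rwa [e, mul_one] at b)) fun n => nD n a
  have cs : ∀ {m x}, m ∈ LL s τ → (m * x * m⁻¹ * s ∈ D ↔ x * s ∈ D) := fun {m x} a => by
    rw [← h.conj_iff (x := x * s) m, ← conj_mul, mul_inv_eq_iff_eq_mul.2 (mem_LL.1 a).1.eq]
  have cj : ∀ {a b : LL s τ}, ConjClasses.mk (π a) = ConjClasses.mk (π b) →
      ∃ m ∈ LL s τ, ∃ c, V4 s τ c ∧ m * a * m⁻¹ = b * c := fun {a b} e => by
    obtain ⟨m, e⟩ := isConj_iff.1 (ConjClasses.mk_eq_mk_iff_isConj.1 e)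
    obtain ⟨m, rfl⟩ := su m
    exact ⟨m, m.2, _, (ker (b⁻¹ * (m * a * m⁻¹))).1 (by simp [e]), by simp⟩
  have o2 : ∀ a : LL s τ, V4 s τ (a * a) → ¬ V4 s τ a.1 →
      ConjClasses.mk (π a) ∈ ConjClasses.mk '' {g : E | orderOf g = 2} := fun a b c =>
    ⟨_, orderOf_eq_two_of (mt (ker a).1 c) (by rw [← map_mul]; exact (ker _).2 b), rfl⟩
  have al : {ConjClasses.mk (π ⟨y₁, m₁⟩), ConjClasses.mk (π ⟨y₂, m₂⟩), ConjClasses.mk (π ⟨y₃, m₃⟩)} =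
      ConjClasses.mk '' {g : E | orderOf g = 2} := by
    refine Set.eq_of_subset_of_ncard_le ?_ (h3.trans (Set.ncard_eq_three.2 ⟨_, _, _, fun e => ?_,
      fun e => ?_, fun e => ?_, rfl⟩).symm).le (Set.finite_of_ncard_ne_zero (by omega))
    · rintro _ (rfl | rfl | rfl)
      exacts [o2 _ (.inl (h.sq d₁)) (nV Vts n₁), o2 _ (.inl (h.sq d₂)) ((n₂ Vs).elim (absurd · h.s_ne)
        (nV Vs)), o2 _ (.inl q₃) (nV Vs (n₃ Vs))]
    all_goals obtain ⟨m, a, c, b, e⟩ := cj e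
    exacts [t₂ b (e ▸ h.conj d₁ m) (e ▸ (cs a).2 ds), nD (n₃ b) (e ▸ h.conj d₁ m),
      nD (n₃ b) (e ▸ h.conj d₂ m)]
  have cov : ∀ y ∈ LL s τ, V4 s τ (y * y) → ¬ V4 s τ y → ∃ m ∈ LL s τ, ∃ c, V4 s τ c ∧
      (m * y * m⁻¹ = y₁ * c ∨ m * y * m⁻¹ = y₂ * c ∨ m * y * m⁻¹ = y₃ * c) := fun y a b c => by
    rcases al.ge (o2 ⟨y, a⟩ b c) with e | e | e <;> obtain ⟨m, a, c, b, e⟩ := cj e
    exacts [⟨m, a, c, b, .inl e⟩, ⟨m, a, c, b, .inr (.inl e)⟩, ⟨m, a, c, b, .inr (.inr e)⟩]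
  intro y a b
  by_cases e : V4 s τ y
  · exact ⟨1, one_mem _, by simpa using (h.Z_le (v4_Z h e)).1⟩
  obtain ⟨m, m1, c, c1, e⟩ := cov y a b e
  have cQ : c ∈ Q := (h.Z_le (v4_Z h c1)).1
  refine ⟨m, m1, ?_⟩
  rcases e with e | e | e <;> rw [e]
  exacts [mul_mem (h.R_mem r₁) cQ, mul_mem (h.R_mem r₂) cQ, mul_mem (h.R_mem r₃) cQ]

/-- as `MU.cases_of_perp` -/
theorem cases_of_perp3 {a b c y : leechLattice} (h : ∀ x, Ort a x → Ort b x → Ort c x → Ort y x) :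
    ∃ w ∈ [0, a, b, a + b], Cong y w ∨ Cong y (w + c) := by
  have key : (∀ x, Ort a x → Ort b x → Ort y x) ∨ ∀ x, Ort a x → Ort b x → Ort (y + c) x := by
    by_contra! hc
    obtain ⟨⟨x, x1, x2, h0⟩, w, w1, w2, h1⟩ := hc
    have := h x x1 x2
    have := h w w1 w2
    have := h _ (ort_add.2 (iff_of_true x1 w1)) (ort_add.2 (iff_of_true x2 w2))
    rw [ort_add, ort_add] at this
    rw [add_ort] at h1
    tauto
  rcases key with e | e <;> rcases cases_of_perp e with e | e | e | e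
  exacts [⟨_, by simp, .inl e⟩, ⟨_, by simp, .inl e⟩, ⟨_, by simp, .inl e⟩, ⟨_, by simp, .inl e⟩,
    ⟨0, by simp, .inr (cg e (-c))⟩, ⟨a, by simp, .inr (cg e (-c))⟩, ⟨b, by simp, .inr (cg e (-c))⟩,
    ⟨a + b, by simp, .inr (cg e (-c))⟩]

/-- `exists_three` for the vectors `⊥ b`; two of the seven sums are `⊥ c`. -/
theorem exists_mov {k : Co0} (h : k * k = 1) (hk : k ∉ center Co0) (hv : Sht v) (kv : k • v = v)
    (b c e : leechLattice) : ∃ p, Ort v p ∧ Ort b p ∧ Ort c p ∧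
      ∀ w ∈ [0, v, e, e + v], ¬ Cong (p + k • p) w := by
  obtain ⟨x, y, w, h1, h2⟩ := exists_three h hk hv kv (S := Ort b) fun x y _ _ _ _ => by
    have := ort_add (a := b) (v := x) (w := y)
    tauto
  simp only [List.mem_cons, List.not_mem_nil, or_false, forall_eq_or_imp, forall_eq] at h1 h2 ⊢
  obtain ⟨⟨x1, x2, -⟩, ⟨y1, y2, -⟩, w1, w2, -⟩ := h1
  obtain ⟨n1, n2, n3, n4, n5, n6, n7⟩ := h2
  let N := fun p : leechLattice => ¬ Cong (p + k • p) 0 ∧ ¬ Cong (p + k • p) v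
  let T := fun p : leechLattice => Ort v p ∧ Ort b p
  have ad : ∀ {p q}, T p → T q → T (p + q) := fun a b =>
    ⟨ort_add.2 (iff_of_true a.1 b.1), ort_add.2 (iff_of_true a.2 b.2)⟩
  have key : ∀ {p q r}, T p → T q → Ort c p → Ort c q → N p → N q → N r → Cong (p + q) r →
      ∃ p, Ort v p ∧ Ort b p ∧ Ort c p ∧ ¬ Cong (p + k • p) 0 ∧ ¬ Cong (p + k • p) v ∧
        ¬ Cong (p + k • p) e ∧ ¬ Cong (p + k • p) (e + v) := fun {p q r} a1 a2 b1 b2 c1 c2 c3 d => by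
    by_contra! f
    have f1 := f p a1.1 a1.2 b1 c1.1 c1.2
    have f2 := f q a2.1 a2.2 b2 c2.1 c2.2
    have d' : Cong (r + k • r) (p + k • p + (q + k • q)) := by
      rw [add_add_add_comm, ← smul_add]
      exact (d.add (d.smul k)).symm
    by_cases g1 : Cong (p + k • p) e <;> by_cases g2 : Cong (q + k • q) e
    · exact c3.1 (cg (d'.trans (g1.add g2)) e)
    · exact c3.2 (cg (d'.trans (g1.add (f2 g2))) e)
    · exact c3.2 (cg (d'.trans ((f1 g1).add g2)) e)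
    · exact c3.1 (cg (d'.trans ((f1 g1).add (f2 g2))) (e + v))
  have tx : T x := ⟨x2, x1⟩
  have ty : T y := ⟨y2, y1⟩
  have tw : T w := ⟨w2, w1⟩
  by_cases a : Ort c x <;> by_cases a' : Ort c y <;> by_cases a'' : Ort c w
  · exact key tx ty a a' n1 n2 n4 (.refl _)
  · exact key tx ty a a' n1 n2 n4 (.refl _)
  · exact key tx tw a a'' n1 n3 n5 (.refl _)
  · exact key tx (ad ty tw) a (ort_add.2 (iff_of_false a' a'')) n1 n6 n7 (La.cong_of_eq (by abel))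
  · exact key ty tw a' a'' n2 n3 n6 (.refl _)
  · exact key ty (ad tx tw) a' (ort_add.2 (iff_of_false a a'')) n2 n5 n7 (La.cong_of_eq (by abel))
  · exact key tw (ad tx ty) a'' (ort_add.2 (iff_of_false a a')) n3 n4 n7 (La.cong_of_eq (by abel))
  · exact key (ad tx ty) (ad tx tw) (ort_add.2 (iff_of_false a a')) (ort_add.2 (iff_of_false a a''))
      n4 n5 n6 (cg (Cong.refl 0) x)

theorem MA.c1_of (h : Fm z Q R A D s τ v u) {x : X} (hx : V4 s τ (x * z)) : C1 D s τ x := by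
  have e : x * (x * z * τ) = z * τ := by
    have c : Commute x z := by simpa using (v4_z h hx).mul_left (Commute.refl z).inv_left
    have := v4_sq h hx
    rw [c.symm.mul_mul_mul_comm, h.zz, mul_one] at this
    rw [← mul_assoc, ← mul_assoc, this, one_mul]
  refine ⟨x * z * τ, v4_mul h hx (.inr (.inr (.inl rfl))), ?_⟩
  rw [e]
  refine ⟨mul_mem h.z_PP.1 h.t_PP.1, (h.cz h.rt).eq ▸ h.of_R (h.R_z h.rt) h.hu, ?_, fun m => h.z_v4 ?_⟩
  · rw [mul_assoc, ← (h.cz h.rts).eq]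
    exact h.of_R (h.R_z h.rts) (sht_sub h.hu h.hv h.huv)
  · simpa [mul_assoc, h.tt] using v4_mul h m (.inr (.inr (.inl rfl)))

theorem MA.core [Finite X] (h : Fm z Q R A D s τ v u) {a : X} (aL : a ∈ LL s τ) (aQ : a ∈ Q)
    (aa : a * a = 1) (a1 : ¬ C1 D s τ a) : ∃ S ≤ LL s τ, IsPGroup 2 S ∧ (∀ r ∈ S, Commute r a) ∧
    ∀ n ∈ NV s τ, ∀ e, (e = 1 ∨ V4 s τ (e * a)) → (V4 s τ (n * n) ∨ V4 s τ (n * n * a)) →
      (∀ r ∈ S, ∀ w, w = n * r * n⁻¹ * r⁻¹ → w = 1 ∨ w = e ∨ Commute n s ∧ (w = s ∨ w = e * s)) →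
        V4 s τ n ∨ V4 s τ (n * a) ∨ C1 D s τ n ∨ C1 D s τ (n * a) := by
  let S := Q ⊓ centralizer {s} ⊓ centralizer {τ} ⊓ centralizer {a}
  have sL : S ≤ LL s τ := fun r hr => ⟨hr.1.1.2, hr.1.2⟩
  have sQ : S ≤ Q := fun r hr => hr.1.1.1
  refine ⟨S, sL, h.lx.isPGroup.to_le sQ, fun r hr => cm1.1 hr.2, fun n hn e he nn H => ?_⟩
  have vQ : ∀ {c}, V4 s τ c → c ∈ Q := fun c => (h.Z_le (v4_Z h c)).1
  have eQ : e ∈ Q := he.elim (fun e => e ▸ one_mem _) fun m => (mul_mem_cancel_right aQ).1 (vQ m)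
  have eL : e ∈ LL s τ := he.elim (fun e => e ▸ one_mem _) fun m =>
    (mul_mem_cancel_right aL).1 (h.Z_le (v4_Z h m)).2.1
  have ce : ∀ r ∈ S, Commute r e := fun r hr => he.elim (fun e => e ▸ .one_right r) fun m => by
    simpa using (comm_V4 (sL hr) m).mul_right (cm1.1 hr.2).inv_right
  have eS : e ∈ S := ⟨⟨⟨eQ, eL.1⟩, eL.2⟩, cm1.2 (ce a ⟨⟨⟨aQ, aL.1⟩, aL.2⟩, cm1.2 (.refl a)⟩).symm⟩
  have sS : s ∈ S := ⟨⟨⟨h.R_mem h.rs, h.s_PP.1.1⟩, h.s_PP.1.2⟩, cm1.2 (mem_LL.1 aL).1.symm⟩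
  have cw : ∀ r ∈ S, ∃ w ∈ S, (∀ x ∈ S, Commute x w) ∧ n * r * n⁻¹ = w * r := fun r hr => by
    refine ⟨n * r * n⁻¹ * r⁻¹, ?_, fun x hx => ?_, by simp⟩ <;>
      rcases H r hr _ rfl with f | f | ⟨-, f | f⟩ <;> rw [f]
    exacts [one_mem _, eS, sS, mul_mem eS sS, .one_right x, ce x hx, (mem_LL.1 (sL hx)).1,
      (ce x hx).mul_right (mem_LL.1 (sL hx)).1]
  have nz : Commute n z := by
    obtain ⟨x, hx, y, hy, f⟩ : ∃ x ∈ S, ∃ y ∈ S, x * y ≠ y * x := by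
      by_contra! f
      have h1 := MP.card_R2 h.toMT (h.R_mem h.rs) (h.R_mem h.rt)
      have h0 := MP.half_le h.lx.toES (N := Q ⊓ centralizer {s} ⊓ centralizer {τ})
        (inf_le_left.trans inf_le_left) aQ
      have h2 := h.lx.toES.card_centralizer sQ
        ⟨⟨⟨h.lx.z_mem, h.z_PP.1.1⟩, h.z_PP.1.2⟩, cm1.2 (h.lx.z_comm a aQ).symm⟩
      have h3 := card_le_of_le (show S ≤ Q ⊓ centralizer (S : Set X) from
        fun x hx => ⟨sQ hx, fun y hy => f y hy x hx⟩)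
      rw [h.card] at h2
      have h4 : 2 ^ 22 ≤ Nat.card S := by
        change 2 ^ 22 ≤ Nat.card (Q ⊓ centralizer {s} ⊓ centralizer {τ} ⊓ centralizer {a} : Subgroup X)
        omega
      have := Nat.mul_le_mul (h4.trans h3) h4
      omega
    have e1 : x * y * x⁻¹ * y⁻¹ = z := by
      rw [(h.lx.conj_cases (sQ hy) (sQ hx)).resolve_left fun a => f (mul_inv_eq_iff_eq_mul.1 a),
        h.lx.z_comm y (sQ hy), mul_inv_cancel_right]
    obtain ⟨w, w1, w2, w3⟩ := cw x hx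
    obtain ⟨w', w1', w2', w3'⟩ := cw y hy
    refine mul_inv_eq_iff_eq_mul.1 ?_
    calc n * z * n⁻¹ = n * x * n⁻¹ * (n * y * n⁻¹) * (n * x * n⁻¹)⁻¹ * (n * y * n⁻¹)⁻¹ := by
          rw [← e1]; group
      _ = w * (x * (w' * y) * x⁻¹) * w⁻¹ * (w' * y)⁻¹ := by rw [w3, w3']; group
      _ = w' * (x * y * x⁻¹ * y⁻¹) * w'⁻¹ := by
          rw [← (w2 _ (mul_mem (mul_mem hx (mul_mem w1' hy)) (inv_mem hx))).eq, mul_inv_cancel_right,
            ← mul_assoc x, (w2' x hx).eq]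
          group
      _ = z := by rw [e1, h.lx.z_comm w' (sQ w1'), mul_inv_cancel_right]
  have n2 : n * n ∈ Q := nn.elim vQ fun m => (mul_mem_cancel_right aQ).1 (vQ m)
  have n3 : n * n ∈ LL s τ := nn.elim (fun m => (h.Z_le (v4_Z h m)).2.1) fun m =>
    (mul_mem_cancel_right aL).1 (h.Z_le (v4_Z h m)).2.1
  obtain ⟨α, hα⟩ := h.ex_v a aQ
  obtain ⟨ε, hε⟩ := h.ex_v e eQ
  have mS : ∀ {p r}, R p r → Pp u v p → Ort α p → r ∈ S := fun hr a b =>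
    ⟨⟨⟨h.R_mem hr, ((h.R_PP hr).2 a).1.1⟩, ((h.R_PP hr).2 a).1.2⟩,
      cm1.2 ((h.comm_iff hα hr).2 b).symm⟩
  have key : ∀ {v' s'} b, R v' s' → Sht v' → Commute n s' → (∀ p, Ort v' p → Ort b p → Pp u v p) →
      (Commute n s → s' = s) → n ∈ Q := fun {v' s'} b r1 r2 r3 r4 r5 => by
    obtain ⟨k, hk, kv⟩ := h.exists_k r1 r2 nz r3
    refine (h.A_ker hk).2 (by_contra fun kc => ?_)
    obtain ⟨p, p1, p2, p3, p4⟩ := exists_mov (h.sq_k hk n2 r2 kv) kc r2 kv b α ε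
    obtain ⟨r, hr⟩ := h.ex_x p
    have f := h.R_cm hk hr
    rcases H r (mS hr (r4 p p1 p2) p3) _ rfl with g | g | ⟨c, g | g⟩ <;> rw [g] at f
    exacts [p4 _ (by simp) (h.cong_of f h.R_zero), p4 _ (by simp) (h.cong_of f hε),
      p4 _ (by simp) (h.cong_of f (r5 c ▸ r1)), p4 _ (by simp) (h.cong_of f (r5 c ▸ h.R_mul hε r1))]
  have nQ : n ∈ Q := by
    by_cases c : Commute n s
    · exact key u h.rs h.hv c (fun p a b => ⟨a, b⟩) fun _ => rfl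
    have i2 : n * (n * s * n⁻¹) * n⁻¹ = s := by
      rw [show n * (n * s * n⁻¹) * n⁻¹ = n * n * s * (n * n)⁻¹ by group, (mem_LL.1 n3).1.eq,
        mul_inv_cancel_right]
    rcases (mem_NV hn).2 (.inr (.inl rfl) : V4 s τ s) with f | f | f | f
    · exact absurd (conj_eq_one_iff.1 f) h.s_ne
    · exact absurd (mul_inv_eq_iff_eq_mul.1 f) c
    · rw [f] at i2
      refine key v h.rts (sht_sub h.hu h.hv h.huv) (mul_inv_eq_iff_eq_mul.1 ?_) (fun p a b => ⟨b, ?_⟩)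
        fun e => absurd e c
      · rw [← conj_mul, i2, f, h.cts.eq]
      · exact (add_ort.1 ((cong_ort (cong_sub v u) p).1 a)).1 b
    · rw [f, ← conj_mul, f, h.cts.eq, ← mul_assoc, ← eq_mul_inv_iff_mul_eq, ← eq_mul_inv_iff_mul_eq,
        inv_eq_of_mul_eq_one_right h.tt, inv_eq_of_mul_eq_one_right h.ss, ← h.cts.eq, mul_assoc τ, h.ss,
        mul_one] at i2
      exact key v h.rt h.hu (mul_inv_eq_iff_eq_mul.1 i2) (fun p a b => ⟨b, a⟩) fun e => absurd e c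
  obtain ⟨y, hy⟩ := h.ex_v n nQ
  have az : ¬ V4 s τ (a * z) := fun m => a1 (MA.c1_of h m)
  obtain ⟨w, hw, f⟩ := cases_of_perp3 (a := v) (b := u) (c := α) (y := y) fun x x1 x2 x3 => by
    obtain ⟨r, hr⟩ := h.ex_x x
    by_contra c
    have := H r (mS hr ⟨x1, x2⟩ x3) _ rfl
    rw [h.conj_z hy hr c, (h.cz hr).eq, mul_inv_cancel_right] at this
    rcases this with g | g | ⟨-, g | g⟩
    · exact h.lx.z_ne g
    · exact he.elim (fun e => h.lx.z_ne (g.trans e)) fun m => az (by rwa [h.lx.z_comm a aQ, g])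
    · exact h.s_ne_z g.symm
    · refine he.elim (fun e => h.s_ne_z (by rw [g, e, one_mul])) fun m => az ?_
      rw [h.lx.z_comm a aQ, g, mul_assoc, ← (mem_LL.1 aL).1.eq, ← mul_assoc]
      exact v4_mul h m (.inr (.inl rfl))
  have wW : w ∈ W0 u v := by
    simp only [List.mem_cons, List.not_mem_nil, or_false] at hw
    rcases hw with rfl | rfl | rfl | rfl
    exacts [zero_mem _, Lc.right_mem _ _, Lc.left_mem _ _, add_mem (Lc.right_mem _ _) (Lc.left_mem _ _)]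
  rcases f with f | f
  · exact (v4_of_W0 h hy (Lc.mem_of_cong f wW)).imp_right fun m => .inr (.inl (MA.c1_of h m))
  · exact .inr ((v4_of_W0 h (h.R_mul hy hα) (Lc.mem_of_cong (cg f α) wW)).imp_right
      fun m => .inr (MA.c1_of h m))

/-- change the frame so that `a ∈ Q` -/
theorem lemA [Finite X] (h : Fm z Q R A D s τ v u)
    (hin : ∀ y ∈ LL s τ, V4 s τ (y * y) → ∃ m ∈ LL s τ, m * y * m⁻¹ ∈ Q) :
    ∀ a ∈ LL s τ, a * a = 1 → ¬ C1 D s τ a → ∃ S ≤ LL s τ, IsPGroup 2 S ∧ (∀ r ∈ S, Commute r a) ∧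
    ∀ n ∈ NV s τ, ∀ e, (e = 1 ∨ V4 s τ (e * a)) → (V4 s τ (n * n) ∨ V4 s τ (n * n * a)) →
      (∀ r ∈ S, ∀ w, w = n * r * n⁻¹ * r⁻¹ → w = 1 ∨ w = e ∨ Commute n s ∧ (w = s ∨ w = e * s)) →
        V4 s τ n ∨ V4 s τ (n * a) ∨ C1 D s τ n ∨ C1 D s τ (n * a) := by
  intro a aL aa a1
  obtain ⟨m, hm, aQ⟩ := hin a aL (.inl aa)
  have h' := h.toMw.conj' m⁻¹
  obtain ⟨x, hx⟩ := h.ex_v _ aQ
  refine MA.core (u := u) (v := v) ⟨h', ?_, ?_, h.hv, h.hu, h.huv⟩ aL (h'.R_mem (v := x) ?_) aa a1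
  · simpa [(mem_LL.1 hm).1.eq] using h.rs
  · simpa [(mem_LL.1 hm).2.eq] using h.rt
  · simpa using hx

end CL.BF
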